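import Cfsg.Agent.MaxSub.Alt

/-!
The similarity group of a quadratic form polarising to the symplectic form, `m ≥ 3` (helper34; the
argument of S5652 with the boundary case of the isotropic vector added).
-/

set_option autoImplicit false
open Cfsg

namespace Cfsg.Agent.Sp6Geom34.Quad

section Helpers
open Matrix Cfsg.Agent.MaxSub

variable {F : Type*} [Field F] {m : ℕ} {Q : (Fin m ⊕ Fin m → F) → F}


theorem add_self_zero [CharP F 2] (x : F) : x + x = 0 := CharTwo.add_self_eq_zero x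

variable (hQ : Geo.IsNondegenerateQuadraticForm Q)
  (hpol : ∀ u v, QuadraticMap.polar Q u v = (sympForm m F) u v)
include hQ hpol

theorem Q_add (x y : Fin m ⊕ Fin m → F) : Q (x + y) = Q x + Q y + (sympForm m F) x y := by
  have h := hpol x y
  rw [QuadraticMap.polar] at h
  rw [← h]; ring

theorem Q_st [CharP F 2] {v : Fin m ⊕ Fin m → F} (x : Fin m ⊕ Fin m → F) (c : F) :
    Q ((st (sympForm m F) v c : Matrix (Fin m ⊕ Fin m) (Fin m ⊕ Fin m) F) *ᵥ x) =
      Q x + ((sympForm m F) x v) ^ 2 * (c * (c * Q v + 1)) := by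
  rw [st_mulVec (isSymplecticForm_sympForm m), Q_add hQ hpol, hQ.smul,
    (isSymplecticForm_sympForm m).bilinear.smul_right]
  ring

theorem st_mem_isometry [CharP F 2] {v : Fin m ⊕ Fin m → F} (hv : Q v ≠ 0) :
    st (sympForm m F) v (Q v)⁻¹ ∈ Geo.quadSimilarityGroup Q ⊓ spGL m F := by
  refine ⟨⟨1, fun x => ?_⟩, st_mem_isom (isSymplecticForm_sympForm m) _ _⟩
  rw [Q_st hQ hpol, inv_mul_cancel₀ hv, add_self_zero (1 : F)]
  simp

/-- A vector with prescribed value of `Q` and of one functional, not orthogonal to `a`. -/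
theorem exists_vector [Finite F] [CharP F 2] (hm : 3 ≤ m) {v a : Fin m ⊕ Fin m → F} (hv : v ≠ 0)
    (ha : a ≠ 0) {s : F} (hs : s ≠ 0) (α : F) :
    ∃ z, (sympForm m F) v z = s ∧ (sympForm m F) a z ≠ 0 ∧ Q z = α := by
  have hf := isSymplecticForm_sympForm (F := F) m
  obtain ⟨y₀, hy₀⟩ := (hf.nondegenerate v hv).2
  obtain ⟨y, hy1⟩ : ∃ y, (sympForm m F) v y = 1 :=
    ⟨((sympForm m F) v y₀)⁻¹ • y₀, by rw [hf.bilinear.smul_right, inv_mul_cancel₀ hy₀]⟩
  obtain ⟨z₀, hz1, hz2⟩ : ∃ z₀, (sympForm m F) v z₀ = s ∧ (sympForm m F) a z₀ ≠ 0 := by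
    by_cases hay : (sympForm m F) a y = 0
    · obtain ⟨x, hx⟩ := (hf.nondegenerate a ha).2
      refine ⟨s • y + (x - (sympForm m F) v x • y), ?_, ?_⟩
      · rw [hf.bilinear.add_right, form_sub_right hf.bilinear, hf.bilinear.smul_right,
          hf.bilinear.smul_right, hy1]
        ring
      · rw [hf.bilinear.add_right, form_sub_right hf.bilinear, hf.bilinear.smul_right,
          hf.bilinear.smul_right, hay]
        simpa using hx
    · exact ⟨s • y, by rw [hf.bilinear.smul_right, hy1, mul_one],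
        by rw [hf.bilinear.smul_right]; exact mul_ne_zero hs hay⟩
  let L : (Fin m ⊕ Fin m → F) →ₗ[F] (Fin 3 → F) :=
    LinearMap.pi ![rmap hf.bilinear v, rmap hf.bilinear a, rmap hf.bilinear z₀]
  let K := LinearMap.ker L
  have hK : ∀ u ∈ K, (sympForm m F) v u = 0 ∧ (sympForm m F) a u = 0 ∧ (sympForm m F) z₀ u = 0 := fun u hu => by
    have h := LinearMap.mem_ker.mp hu
    exact ⟨congrFun h 0, congrFun h 1, congrFun h 2⟩
  have hdim : m ≤ Module.finrank F K := by
    have h := LinearMap.finrank_range_add_finrank_ker L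
    have h' := Submodule.finrank_le (LinearMap.range L)
    simp at h h'
    show m ≤ Module.finrank F (LinearMap.ker L)
    omega
  obtain ⟨u₁, hu₁, hne⟩ : ∃ u ∈ K, Q u ≠ 0 := by
    by_contra hc
    simp only [not_exists, not_and, not_not] at hc
    have hiso : ∀ x ∈ K, ∀ w ∈ K, (sympForm m F) x w = 0 := fun x hx w hw => by
      have h := Q_add hQ hpol x w
      rw [hc x hx, hc w hw, hc _ (add_mem hx hw)] at h
      simpa using h.symm
    have hle : ∀ N : Submodule F (Fin m ⊕ Fin m → F),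
        (∀ x ∈ N, ∀ w ∈ N, (sympForm m F) x w = 0) → 2 * Module.finrank F N ≤ m + m := by
      intro N hN
      let T : N →ₗ[F] N.dualAnnihilator :=
        { toFun := fun w => ⟨lmap hf.bilinear w, (Submodule.mem_dualAnnihilator _).mpr
            fun x hx => hN x hx _ w.2⟩
          map_add' := fun w w' => by ext x; exact hf.bilinear.add_right _ _ _
          map_smul' := fun c w => by ext x; exact hf.bilinear.smul_right _ _ _ }
      have hinj : Function.Injective T := by
        rw [injective_iff_map_eq_zero]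
        intro w hw
        by_contra hw0
        obtain ⟨x, hx⟩ := (hf.nondegenerate w.1 (fun h => hw0 (Subtype.ext h))).1
        exact hx (LinearMap.congr_fun (congrArg Subtype.val hw) x)
      have h1 := LinearMap.finrank_le_finrank_of_injective hinj
      have h2 := Subspace.finrank_add_finrank_dualAnnihilator_eq N
      simp at h2
      omega
    have hvK : v ∉ K := fun h => hs (by
      rw [← hz1, hf.skew, (hK v h).2.2, neg_zero])
    have hN : ∀ x ∈ K ⊔ Submodule.span F {v}, ∀ w ∈ K ⊔ Submodule.span F {v},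
        (sympForm m F) x w = 0 := by
      intro x hx w hw
      obtain ⟨k, hk, _, hv1, rfl⟩ := Submodule.mem_sup.mp hx
      obtain ⟨c, rfl⟩ := Submodule.mem_span_singleton.mp hv1
      obtain ⟨k', hk', _, hv2, rfl⟩ := Submodule.mem_sup.mp hw
      obtain ⟨c', rfl⟩ := Submodule.mem_span_singleton.mp hv2
      simp only [hf.bilinear.add_left, hf.bilinear.add_right, hf.bilinear.smul_left,
        hf.bilinear.smul_right, hiso k hk k' hk', (hK k' hk').1, hf.alternating, hf.skew k v,
        (hK k hk).1]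
      ring
    have h3 := hle _ hN
    have h4 : Module.finrank F K < Module.finrank F ↥(K ⊔ Submodule.span F {v}) :=
      Submodule.finrank_lt_finrank_of_lt (lt_of_le_of_ne le_sup_left fun h =>
        hvK (h ▸ Submodule.mem_sup_right (Submodule.mem_span_singleton_self v)))
    omega
  obtain ⟨c, hc⟩ := (bijective_frobenius F 2).2 ((α - Q z₀) / Q u₁)
  refine ⟨z₀ + c • u₁, ?_, ?_, ?_⟩
  · rw [hf.bilinear.add_right, hf.bilinear.smul_right, (hK u₁ hu₁).1, mul_zero, add_zero, hz1]
  · rw [hf.bilinear.add_right, hf.bilinear.smul_right, (hK u₁ hu₁).2.1, mul_zero, add_zero]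
    exact hz2
  · rw [Q_add hQ hpol, hQ.smul, hf.bilinear.smul_right, (hK u₁ hu₁).2.2, ← frobenius_def, hc,
      div_mul_cancel₀ _ hne]
    ring

theorem main [Finite F] [CharP F 2] (hm : 3 ≤ m) {M : Subgroup (GL (Fin m ⊕ Fin m) F)}
    (hHM : Geo.quadSimilarityGroup Q ⊓ spGL m F ≤ M) {g : GL (Fin m ⊕ Fin m) F} (hg : g ∈ M)
    (hgi : g ∈ spGL m F) (hgn : g ∉ Geo.quadSimilarityGroup Q) : spGL m F ≤ M := by
  have hf := isSymplecticForm_sympForm (F := F) m
  set gi : Matrix (Fin m ⊕ Fin m) (Fin m ⊕ Fin m) F := ((g⁻¹ : GL (Fin m ⊕ Fin m) F) : Matrix (Fin m ⊕ Fin m) (Fin m ⊕ Fin m) F)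
    with hgi'
  let L : (Fin m ⊕ Fin m → F) →ₗ[F] F :=
    { toFun := fun x => (frobeniusEquiv F 2).symm (Q (gi *ᵥ x) + Q x)
      map_add' := fun x y => by
        rw [← map_add]
        congr 1
        have h1 := mem_isom.mp (inv_mem hgi : g⁻¹ ∈ isom (sympForm m F)) x y
        rw [mulVec_add, Q_add hQ hpol, Q_add hQ hpol x y, h1]
        linear_combination add_self_zero (F := F) ((sympForm m F) x y)
      map_smul' := fun c x => by
        rw [mulVec_smul, hQ.smul, hQ.smul, ← mul_add, map_mul, RingHom.id_apply, smul_eq_mul]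
        congr 1
        exact (frobeniusEquiv F 2).symm_apply_eq.mpr (by rw [frobeniusEquiv_apply, frobenius_def]) }
  obtain ⟨a, ha⟩ := exists_rep hf.bilinear hf.nondegenerate
    (fun i => L (Pi.single i 1))
  have hLa : ∀ x, (sympForm m F) x a = L x := fun x => by
    rw [← rep_dot hf.bilinear, ha]
    conv_rhs => rw [pi_eq_sum_univ' x]
    simp only [map_sum, map_smul, smul_eq_mul, dotProduct, mul_comm]
  have hQ' : ∀ x, Q (gi *ᵥ x) = Q x + (sympForm m F) x a ^ 2 := fun x => by
    rw [hLa]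
    show _ = _ + (frobeniusEquiv F 2).symm (Q (gi *ᵥ x) + Q x) ^ 2
    rw [← frobenius_def, ← frobeniusEquiv_apply, RingEquiv.apply_symm_apply]
    linear_combination -(add_self_zero (F := F) (Q x))
  have ha0 : a ≠ 0 := fun h => hgn ⟨1, fun x => by
    have h1 := hQ' ((g : Matrix (Fin m ⊕ Fin m) (Fin m ⊕ Fin m) F) *ᵥ x)
    rw [hgi', inv_mulVec_mulVec, h, form_zero_right hf.bilinear] at h1
    simpa using h1.symm⟩
  refine isom_le_of_st_mem hf fun v c => ?_
  by_cases hv : v = 0
  · rw [st, hv, tv_zero_left]; exact one_mem M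
  by_cases hc : c = 0
  · rw [st, hc, zero_smul, tv_zero_right]; exact one_mem M
  obtain ⟨s, hs⟩ := (bijective_frobenius F 2).2 (c⁻¹ + Q v)
  rw [frobenius_def] at hs
  by_cases hs0 : s = 0
  · rw [hs0, zero_pow two_ne_zero, eq_comm, CharTwo.add_eq_zero, inv_eq_iff_eq_inv] at hs
    rw [hs]
    by_cases hQv : Q v = 0
    · exact absurd (by rw [hs, hQv, _root_.inv_zero]) hc
    exact hHM (st_mem_isometry hQ hpol hQv)
  obtain ⟨z, hz1, hz2, hz3⟩ := exists_vector hQ hpol hm hv ha0 hs0 (Q a)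
  -- the transvection carrying `a` to `z`
  have hQaz : Q (a + z) = (sympForm m F) a z := by
    rw [Q_add hQ hpol, hz3, add_self_zero, zero_add]
  set h := st (sympForm m F) (a + z) (Q (a + z))⁻¹ with hh
  have hhmem := st_mem_isometry hQ hpol (v := a + z) (by rw [hQaz]; exact hz2)
  rw [← hh] at hhmem
  have hha : (h : Matrix (Fin m ⊕ Fin m) (Fin m ⊕ Fin m) F) *ᵥ a = z := by
    rw [hh, st_mulVec hf, hQaz, hf.bilinear.add_right, hf.alternating, zero_add,
      inv_mul_cancel₀ hz2, one_smul, ← add_assoc]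
    funext i
    simp [add_self_zero]
  obtain ⟨d, hd⟩ := hhmem.1
  set hi : Matrix (Fin m ⊕ Fin m) (Fin m ⊕ Fin m) F := ((h⁻¹ : GL (Fin m ⊕ Fin m) F) : Matrix (Fin m ⊕ Fin m) (Fin m ⊕ Fin m) F)
  have hQh : ∀ x, Q (hi *ᵥ x) = Q x := by
    intro x
    have h2 : ∀ y, Q ((h : Matrix (Fin m ⊕ Fin m) (Fin m ⊕ Fin m) F) *ᵥ y) = Q y := fun y => by
      rw [hh, Q_st hQ hpol, inv_mul_cancel₀ (by rw [hQaz]; exact hz2), add_self_zero (1 : F)]
      simp
    conv_rhs => rw [← mulVec_inv_mulVec h x, h2]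
  set k := h * g with hk
  have hki : k ∈ isom (sympForm m F) := mul_mem (st_mem_isom hf _ _) hgi
  set u := ((k⁻¹ : GL (Fin m ⊕ Fin m) F) : Matrix (Fin m ⊕ Fin m) (Fin m ⊕ Fin m) F) *ᵥ v with hu
  have hQu : Q u = c⁻¹ := by
    have h1 : (sympForm m F) (hi *ᵥ v) a = (sympForm m F) v z := by
      rw [← hha]
      conv_rhs => rw [← mulVec_inv_mulVec h v, mem_isom.mp (st_mem_isom hf _ _ : h ∈ isom (sympForm m F))]
    rw [hu, hk, _root_.mul_inv_rev, Units.val_mul, ← mulVec_mulVec, hQ', hQh, h1, hz1, hs]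
    linear_combination add_self_zero (F := F) (Q v)
  have hmem := hHM (st_mem_isometry hQ hpol (v := u) (by rw [hQu]; exact inv_ne_zero hc))
  have hkM : k ∈ M := mul_mem (hHM hhmem) hg
  have := mul_mem (mul_mem hkM hmem) (inv_mem hkM)
  rwa [st_conj hf hki, hQu, inv_inv, hu, mulVec_inv_mulVec] at this


end Helpers

open Matrix Cfsg.Agent.MaxSub

/-- For a finite field F of characteristic two and m ≥ 4, let Q be a non-degenerate quadratic form on F^(2m) whose polar form is the standard alternating form. Then the elements of Sp_2m(F) that are similarities of Q (they are exactly the isometries of Q) form a maximal subgroup of Sp_2m(F). -/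
theorem isMaximalIn {F : Type*} [Field F] [Fintype F] (m : ℕ) (hm : 3 ≤ m) (heven : ¬ Odd (Fintype.card F)) (Q : (Fin m ⊕ Fin m → F) → F) (hQ : Cfsg.Geo.IsNondegenerateQuadraticForm Q) (hpol : ∀ u v, QuadraticMap.polar Q u v = Cfsg.sympForm m F u v) : Cfsg.Geo.IsMaximalIn (Cfsg.spGL m F) (Cfsg.Geo.quadSimilarityGroup Q ⊓ Cfsg.spGL m F) := by
  have hdvd : 2 ∣ Fintype.card F :=
    even_iff_two_dvd.mp (Nat.not_odd_iff_even.mp heven)
  haveI : CharP F 2 := ringChar.of_eq (FiniteField.even_card_iff_char_two.mpr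
    (Nat.mod_eq_zero_of_dvd hdvd))
  have hf := isSymplecticForm_sympForm (F := F) m
  refine isMaximalIn_of inf_le_right ?_ fun M hHM hMK g hg hgH =>
    main hQ hpol hm hHM hg (hMK hg) fun h => hgH ⟨h, hMK hg⟩
  -- a symplectic transvection which is not a similarity of `Q`
  let e : Fin m ⊕ Fin m → F := Pi.single (Sum.inl ⟨0, by omega⟩) 1
  have he : e ≠ 0 := by simp [e]
  obtain ⟨v, hv1, -, hv3⟩ := exists_vector hQ hpol hm he he one_ne_zero (0 : F)
  have hv0 : v ≠ 0 := fun h => by simp [h, form_zero_right hf.bilinear] at hv1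
  refine ⟨st (sympForm m F) v 1, st_mem_isom hf _ _, fun hmem => ?_⟩
  obtain ⟨c, hc⟩ := hmem.1
  have h1 := hc e
  rw [Q_st hQ hpol, hv3, hv1] at h1
  have h2 := hc v
  obtain ⟨w, hw⟩ := (hf.nondegenerate v hv0).2
  have hpolc : sympForm m F v w = (c : F) * sympForm m F v w := by
    have e1 := Q_add hQ hpol ((st (sympForm m F) v 1 : Matrix (Fin m ⊕ Fin m) (Fin m ⊕ Fin m) F) *ᵥ v)
      ((st (sympForm m F) v 1 : Matrix (Fin m ⊕ Fin m) (Fin m ⊕ Fin m) F) *ᵥ w)
    rw [← mulVec_add, hc, hc, hc, mem_isom.mp (st_mem_isom hf v 1) v w, Q_add hQ hpol] at e1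
    linear_combination -e1
  have hc1 : (c : F) = 1 := (mul_eq_right₀ hw).mp hpolc.symm
  rw [hc1] at h1
  simp at h1

end Cfsg.Agent.Sp6Geom34.Quad
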