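import Cfsg.Agent.Sp6Geom34.TensorPartial

/-!
`Sp₂ ⊗ O₃` is maximal in `Sp₆`: an element moving a column off itself gives a conjugate of a
reflection moving it partially (helper66).
-/

set_option autoImplicit false
set_option linter.unusedSectionVars false
set_option linter.unusedSimpArgs false

namespace Cfsg.Agent.Sp6Geom34.Tensor

open Matrix Cfsg.Agent.MaxSub Cfsg.Agent.TensorMax Cfsg.Agent.TensorInv Module

variable {F : Type*} [Field F] [Fintype F] {S : TForm F 3 2}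
  {H : Subgroup (GL (Fin 3 × Fin 2) F)}

/-- A map with a vector that is no eigenvector has an anisotropic one. -/
theorem exists_aniso_noneigen (hε : S.ε = 1) (hq : ∃ t : F, t ≠ 0 ∧ t ^ 2 ≠ 1)
    (N : (Fin 3 → F) →ₗ[F] (Fin 3 → F)) {x₀ : Fin 3 → F} (hx₀ : ∀ l : F, N x₀ ≠ l • x₀) :
    ∃ v, S.f₁ v v ≠ 0 ∧ ∀ l : F, N v ≠ l • v := by
  have hf := S.sym₁ hε
  by_contra hn
  push Not at hn
  obtain ⟨v, hv⟩ := hf.exists_aniso (by omega)
  obtain ⟨a, ha⟩ := hn v hv
  have h00 : S.f₁ x₀ x₀ = 0 := by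
    by_contra h
    obtain ⟨l, hl⟩ := hn x₀ h
    exact hx₀ l hl
  have hx₀0 : x₀ ≠ 0 := fun h => hx₀ 0 (by rw [h, map_zero, zero_smul])
  -- two translates cannot both be anisotropic
  have key : ∀ s s' : F, s ≠ s' → S.f₁ (x₀ + s • v) (x₀ + s • v) ≠ 0 →
      S.f₁ (x₀ + s' • v) (x₀ + s' • v) = 0 := by
    intro s s' hss hs
    by_contra hs'
    obtain ⟨μ, hμ⟩ := hn _ hs
    obtain ⟨μ', hμ'⟩ := hn _ hs'
    rw [map_add, map_smul, ha] at hμ hμ'
    have e : (μ - μ') • x₀ = (s' * (μ' - a) - s * (μ - a)) • v := by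
      linear_combination (norm := module) hμ' - hμ
    have h1 := congrArg (fun z => S.f₁ z z) e
    simp only [map_smul, LinearMap.smul_apply, smul_eq_mul, h00, mul_zero] at h1
    have h2 : s' * (μ' - a) - s * (μ - a) = 0 := by simpa [hv] using h1.symm
    rw [h2, zero_smul, smul_eq_zero, or_iff_left hx₀0, sub_eq_zero] at e
    subst e
    have h3 : μ - a = 0 := (mul_eq_zero.1 (show (s' - s) * (μ - a) = 0 by
      linear_combination h2)).resolve_left (sub_ne_zero.2 hss.symm)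
    rw [sub_eq_zero] at h3
    subst h3
    exact hx₀ μ (by linear_combination (norm := module) hμ)
  have key' : ∀ s s' : F, s ≠ 0 → s' ≠ 0 → s ≠ s' → S.f₁ (x₀ + s • v) (x₀ + s • v) = 0 →
      S.f₁ (x₀ + s' • v) (x₀ + s' • v) ≠ 0 := by
    intro s s' h0 h0' hss h h'
    simp only [map_add, map_smul, LinearMap.add_apply, LinearMap.smul_apply, smul_eq_mul, h00,
      hf.symm x₀ v] at h h'
    refine hss (mul_left_cancel₀ hv ?_)
    refine mul_left_cancel₀ (mul_ne_zero h0 h0') ?_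
    linear_combination s' * h - s * h'
  obtain ⟨t, ht0, ht⟩ := hq
  have h1 : (1 : F) ≠ -1 := fun h => S.two (by linear_combination h)
  have ht1 : t ≠ 1 := fun h => ht (by rw [h, one_pow])
  have ht2 : t ≠ -1 := fun h => ht (by rw [h, neg_one_sq])
  by_cases h : S.f₁ (x₀ + (1 : F) • v) (x₀ + (1 : F) • v) = 0
  · exact key' 1 t one_ne_zero ht0 ht1.symm h
      (key (-1) t ht2.symm (key' 1 (-1) one_ne_zero (neg_ne_zero.2 one_ne_zero) h1 h))
  · exact key' (-1) t (neg_ne_zero.2 one_ne_zero) ht0 ht2.symm (key 1 (-1) h1 h) (key 1 t ht1.symm h)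

variable (O : Over S H) (hε : S.ε = 1) (hR : ¬ Root S H) (h5 : 5 ≤ Fintype.card F)

include O hε hR h5

/-- No group without root elements properly contains the stabiliser. -/
theorem le_kronecker_three : H ≤ Cfsg.Geo.kroneckerSubgroup 3 2 F := by
  classical
  intro h hh
  have hq := exists_sq_ne_one (F := F) h5
  have hf := S.sym₁ hε
  have halt := S.alt₂ hε
  obtain ⟨w, hw⟩ := exists_ne (0 : Fin 2 → F)
  obtain ⟨z, hz, -⟩ := exists_both S.nd₂ hw hw
  have P : Pair S w ((S.f₂ w z)⁻¹ • z) := ⟨halt w, halt _, by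
    rw [map_smul, smul_eq_mul, inv_mul_cancel₀ hz]⟩
  generalize ((S.f₂ w z)⁻¹ • z) = n' at P
  by_cases hall : ∀ p, theta S w h p = 0
  · rw [← inv_inv h]
    exact inv_mem (kron_of_stable₂ O hε hR hq P (inv_mem hh) fun x =>
      ⟨_, mem_col hε P (hall x)⟩)
  push Not at hall
  obtain ⟨p₁, hp₁⟩ := hall
  have hinj : Function.Injective (theta S w h) := by
    rw [← LinearMap.ker_eq_bot]
    refine (Submodule.eq_bot_iff _).2 fun p hp => ?_
    by_contra hp0
    exact partial_false O hε hR h5 P hh hp0 (LinearMap.mem_ker.1 hp) hp₁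
  let e := LinearEquiv.ofBijective (theta S w h)
    ⟨hinj, LinearMap.injective_iff_surjective.mp hinj⟩
  let N : (Fin 3 → F) →ₗ[F] (Fin 3 → F) :=
    -(S.pi n' ∘ₗ act h⁻¹ ∘ₗ emb w ∘ₗ e.symm.toLinearMap)
  have hN : ∀ r, act h⁻¹ (emb w (e.symm r)) = emb n' r + emb w (N r) := fun r => by
    have hr : S.pi w (act h⁻¹ (emb w (e.symm r))) = r := e.apply_symm_apply r
    conv_lhs => rw [decomp₂ hε P (act h⁻¹ (emb w (e.symm r))), hr]
    rw [show N r = -S.pi n' (act h⁻¹ (emb w (e.symm r))) from rfl, map_neg]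
    abel
  by_cases heig : ∀ x, ∃ l : F, N x = l • x
  · obtain ⟨l, hl⟩ := exists_scalar_of_eigen N heig
    have hm : n' + l • w ≠ 0 := fun h0 => by
      have := congrArg (S.f₂ w) h0
      simp [P.nn, P.nn'] at this
    rw [← inv_inv h]
    refine inv_mem (kron_of_column O hε hR hq (inv_mem hh) hw hm fun x => ⟨e x, ?_⟩)
    rw [← e.symm_apply_apply x, hN, hl, e.apply_symm_apply, emb_add_left, emb_smul_left, map_smul]
  push Not at heig
  obtain ⟨x₀, hx₀⟩ := heig
  obtain ⟨v, hv, hNv⟩ := exists_aniso_noneigen hε hq N hx₀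
  exfalso
  set g := kr (refl S.f₁ v) (1 : GL (Fin 2) F) with hg
  have hgg : g⁻¹ = g := inv_eq_of_mul_eq_one_right (gl_ext_emb fun u x => by
    rw [hg, act_mul, act_kr, act_kr, act_one, act_one, ← act_mul, refl_refl, act_one, act_one])
  have hk : h * g * h⁻¹ ∈ H := mul_mem (mul_mem hh (O.left (refl_form hf.symm hv))) (inv_mem hh)
  have hθ : ∀ r, theta S w (h * g * h⁻¹) (e.symm r) =
      S.pi w (act h (emb n' (act (refl S.f₁ v) r) + emb w (act (refl S.f₁ v) (N r)))) := fun r => by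
    show S.pi w (act (h * g * h⁻¹)⁻¹ (emb w (e.symm r))) = _
    rw [_root_.mul_inv_rev, _root_.mul_inv_rev, inv_inv, hgg, act_mul, act_mul, hN, hg, map_add,
      act_kr, act_kr, act_one, act_one, map_add]
  obtain ⟨r₀, hr₀, hr0⟩ := Submodule.exists_mem_ne_zero_of_ne_bot
    (LinearMap.ker_ne_bot_of_finrank_lt (f := LinearMap.pi ![S.f₁ v, S.f₁ v ∘ₗ N])
      (by simp))
  rw [LinearMap.mem_ker] at hr₀
  have hr₁ : S.f₁ v r₀ = 0 := congrFun hr₀ 0
  have hr₂ : S.f₁ v (N r₀) = 0 := congrFun hr₀ 1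
  refine partial_false O hε hR h5 P hk (p₀ := e.symm r₀) (e.symm.map_ne_zero_iff.2 hr0) ?_
    (p₁ := e.symm v) ?_
  · rw [hθ, refl_apply, refl_apply, hr₁, hr₂]
    simp only [mul_zero, zero_div, zero_smul, sub_zero]
    rw [← hN, act_act_inv, pi_self P]
  · rw [hθ]
    intro h0
    set c := 2 * S.f₁ v (N v) / S.f₁ v v with hc
    have hRv : act (refl S.f₁ v) v = -v := by
      rw [refl_apply, mul_div_assoc, div_self hv, mul_one]
      module
    rw [hRv, refl_apply, ← hc,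
      show emb n' (-v) + emb w (N v - c • v) =
        -(emb n' v + emb w (N v)) + emb w (N v + N v - c • v) by
          simp only [map_neg, map_sub, map_add]; abel,
      ← hN, map_add, map_neg, act_act_inv, map_add, map_neg, pi_self P, neg_zero, zero_add] at h0
    have hy := mem_col hε P h0
    set y := -S.pi n' (act h (emb w (N v + N v - c • v)))
    have hθy : theta S w h y = 0 := by
      show S.pi w (act h⁻¹ (emb w y)) = 0
      rw [← hy, act_inv_act, pi_self P]
    have hy0 : y = 0 := hinj (hθy.trans (map_zero _).symm)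
    rw [hy0, map_zero] at hy
    have hw0 : N v + N v - c • v = 0 :=
      emb_injective hw (act_injective h (by rw [hy, map_zero, map_zero]))
    refine hNv (c / 2) ?_
    apply smul_right_injective _ S.two
    show (2 : F) • N v = (2 : F) • (c / 2) • v
    rw [smul_smul, mul_div_cancel₀ c S.two, two_smul]
    exact sub_eq_zero.1 hw0

end Cfsg.Agent.Sp6Geom34.Tensor

namespace Cfsg.Agent.Sp6Geom34

open Cfsg.Agent.TensorMax Cfsg.Agent.TensorInv

/-- The stabiliser of a tensor decomposition `Sp₂ ⊗ O₃` is maximal in `Sp₆`. -/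
theorem tensor_maximal {F : Type*} [Field F] [Fintype F] :
    Odd (Fintype.card F) → 5 ≤ Fintype.card F → ∀ (e : (Fin 3 ⊕ Fin 3) ≃ Fin 2 × Fin 3) (P : Matrix.GeneralLinearGroup (Fin 3 ⊕ Fin 3) F) (f₁ : (Fin 2 → F) → (Fin 2 → F) → F) (f₂ : (Fin 3 → F) → (Fin 3 → F) → F), Cfsg.Geo.IsSymplecticForm f₁ → Cfsg.Geo.IsSymmetricForm f₂ → Cfsg.Geo.IsTensorFormStructure id (Cfsg.sympForm 3 F) f₁ f₂ e P → Cfsg.Geo.IsMaximalIn (Cfsg.spGL 3 F) (Cfsg.Geo.tensorProductSubgroup 2 3 e P ⊓ Cfsg.spGL 3 F) := by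
  intro hodd h5 e P f₁ f₂ hf₁ hf₂ hT
  refine Cfsg.Agent.SpGeo11.Tensor.isMaximalIn_of_engine (Or.inr ⟨le_rfl, le_rfl⟩) (by omega) hodd e
    P f₁ f₂ hf₁ hf₂ hT fun S H O hε hR h hh => ?_
  rw [← flipGL_mem_kronecker]
  refine Tensor.le_kronecker_three O.swap (show -S.ε = 1 by rw [hε, neg_neg])
    (fun h' => hR h'.swap) h5 ?_
  rw [mem_flipH, flipGL_flipGL]
  exact hh

end Cfsg.Agent.Sp6Geom34
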