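import Cfsg.Agent.Sp6Geom34.UnitaryMain

set_option autoImplicit false
open Cfsg

namespace Cfsg.Agent.Sp6Geom34

/-- The normaliser of a quadratic extension with non-trivial adjoint involution is maximal in
`Sp_2m(q)`, `q` odd, `m ≥ 3`. -/
theorem unitary_maximal {F : Type*} [Field F] [Fintype F] (m : ℕ) (hm : 3 ≤ m) (hodd : Odd (Fintype.card F)) (K : Subalgebra F (Matrix (Fin m ⊕ Fin m) (Fin m ⊕ Fin m) F)) (hK : Cfsg.Geo.IsFieldSubalgebra 2 K) (hac : Cfsg.Geo.IsAdjointClosedFor (Cfsg.sympForm m F) K) (hnsa : ¬ Cfsg.Geo.IsSelfAdjointFor (Cfsg.sympForm m F) K) : Cfsg.Geo.IsMaximalIn (Cfsg.spGL m F) (Cfsg.Geo.subalgebraNormalizer K ⊓ Cfsg.spGL m F) := by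
  classical
  have hf := MaxSub.isSymplecticForm_sympForm (F := F) m
  have hb := hf.bilinear
  have h2 : (2 : F) ≠ 0 := fun h => by
    have := CharP.ringChar_of_prime_eq_zero (R := F) Nat.prime_two (by exact_mod_cast h)
    have hev : Even (Fintype.card F) := by
      rw [Nat.even_iff]; exact FiniteField.even_card_iff_char_two.mp this
    exact Nat.not_odd_iff_even.mpr hev hodd
  -- a skew generator
  obtain ⟨k, hk, hkn⟩ : ∃ k ∈ K, ¬ ∀ u v, sympForm m F (Matrix.mulVec k u) v =
      sympForm m F u (Matrix.mulVec k v) := by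
    simpa [Cfsg.Geo.IsSelfAdjointFor] using hnsa
  obtain ⟨k', hk', hadj⟩ := hac k hk
  set J := k - k' with hJ
  have hJK : J ∈ K := sub_mem hk hk'
  have hskew : ∀ u v, sympForm m F (Matrix.mulVec J u) v = -sympForm m F u (Matrix.mulVec J v) := by
    intro u v
    rw [hJ, Matrix.sub_mulVec, Matrix.sub_mulVec, MaxSub.form_sub_left hb,
      MaxSub.form_sub_right hb, hadj u v]
    have : sympForm m F (Matrix.mulVec k' u) v = sympForm m F u (Matrix.mulVec k v) := by
      rw [hf.skew (Matrix.mulVec k' u), ← hadj v u, ← hf.skew u]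
    rw [this]; ring
  have hJ0 : J ≠ 0 := fun h => hkn fun u v => by rw [hadj, ← sub_eq_zero.mp h]
  have hJns : ∀ c : F, J ≠ c • 1 := fun c h => hJ0 (by
    have hc : c = 0 := by
      by_contra hc
      obtain ⟨v, hv⟩ : ∃ v : Fin m ⊕ Fin m → F, v ≠ 0 :=
        ⟨Pi.single (Sum.inl ⟨0, by omega⟩) 1, by simp⟩
      obtain ⟨u, hu⟩ := (hf.nondegenerate v hv).1
      have := hskew u v
      simp only [h, Matrix.smul_mulVec, Matrix.one_mulVec, hb.smul_left, hb.smul_right] at this
      have h3 : (2 : F) * (c * sympForm m F u v) = 0 := by linear_combination this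
      exact mul_ne_zero h2 (mul_ne_zero hc hu) h3
    rw [h, hc, zero_smul])
  have hli : LinearIndependent F ![(1 : Matrix (Fin m ⊕ Fin m) (Fin m ⊕ Fin m) F), J] := by
    haveI : Nonempty (Fin m ⊕ Fin m) := ⟨Sum.inl ⟨0, by omega⟩⟩
    refine (LinearIndependent.pair_iff' one_ne_zero).mpr fun c h => hJns c h.symm
  have hspan : Submodule.span F (Set.range ![(1 : Matrix (Fin m ⊕ Fin m) (Fin m ⊕ Fin m) F), J]) =
      Subalgebra.toSubmodule K := by
    refine Submodule.eq_of_le_of_finrank_eq (Submodule.span_le.mpr ?_) ?_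
    · rintro _ ⟨i, rfl⟩
      fin_cases i
      · exact one_mem K
      · exact hJK
    · rw [finrank_span_eq_card hli, Subalgebra.finrank_toSubmodule, hK.finrank_eq]
      simp
  have hgen : ∀ x ∈ K, ∃ a b : F, x = a • 1 + b • J := fun x hx => by
    have hx' : x ∈ Subalgebra.toSubmodule K := hx
    rw [← hspan, Submodule.mem_span_range_iff_exists_fun] at hx'
    obtain ⟨c, rfl⟩ := hx'
    exact ⟨c 0, c 1, by simp [Fin.sum_univ_two]⟩
  obtain ⟨μ, b, hJJ⟩ := hgen _ (mul_mem hJK hJK)
  have hb0 : b = 0 := by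
    by_contra hb0
    refine hJ0 ?_
    refine Matrix.ext_iff_mulVec.mpr fun x => ?_
    rw [Matrix.zero_mulVec]
    by_contra hx
    obtain ⟨y, hy⟩ := (hf.nondegenerate _ hx).1
    have e1 : sympForm m F (Matrix.mulVec (J * J) x) y = sympForm m F x (Matrix.mulVec (J * J) y) := by
      rw [← Matrix.mulVec_mulVec, ← Matrix.mulVec_mulVec, hskew, hskew, neg_neg]
    simp only [hJJ, Matrix.add_mulVec, Matrix.smul_mulVec, Matrix.one_mulVec, hb.add_left,
      hb.add_right, hb.smul_left, hb.smul_right, hskew x y] at e1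
    have h3 : (2 : F) * (b * sympForm m F x (Matrix.mulVec J y)) = 0 := by linear_combination -e1
    refine mul_ne_zero h2 (mul_ne_zero hb0 ?_) h3
    rw [hf.skew x, hskew, neg_neg]
    exact hy
  rw [hb0, zero_smul, add_zero] at hJJ
  have hs : UnitaryInSp.IsSkewGen (sympForm m F) J μ := by
    refine ⟨hf, hJJ, fun r hr => ?_, hskew, h2⟩
    have hne : J - r • 1 ≠ 0 := fun h => hJns r (sub_eq_zero.mp h)
    obtain ⟨y, -, hy⟩ := hK.inv _ (sub_mem hJK (Subalgebra.smul_mem K (one_mem K) r)) hne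
    have hprod : (J + r • 1) * (J - r • 1) = 0 := by
      simp only [add_mul, mul_sub, Matrix.smul_mul, Matrix.mul_smul, one_mul, mul_one, smul_smul, hJJ, hr]
      abel
    have := congrArg (· * y) hprod
    simp only [mul_assoc, hy, mul_one, zero_mul] at this
    exact hJns (-r) (by rw [neg_smul]; exact eq_neg_of_add_eq_zero_left this)
  have hn : 5 ≤ Fintype.card (Fin m ⊕ Fin m) := by simp; omega
  -- commuting or anticommuting elements normalise `K`
  have hnorm : ∀ g : GL (Fin m ⊕ Fin m) F,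
      ((∀ x, Matrix.mulVec (g : Matrix _ _ F) (Matrix.mulVec J x) =
          Matrix.mulVec J (Matrix.mulVec (g : Matrix _ _ F) x)) ∨
        ∀ x, Matrix.mulVec (g : Matrix _ _ F) (Matrix.mulVec J x) =
          -Matrix.mulVec J (Matrix.mulVec (g : Matrix _ _ F) x)) ↔
      g ∈ Cfsg.Geo.subalgebraNormalizer K := by
    intro g
    constructor
    · intro h
      obtain ⟨e, he, hconj⟩ : ∃ e : F, e * e = 1 ∧
          (g : Matrix _ _ F) * J * ((g⁻¹ : GL (Fin m ⊕ Fin m) F) : Matrix _ _ F) = e • J := by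
        rcases h with h | h
        · refine ⟨1, one_mul 1, ?_⟩
          rw [show (g : Matrix _ _ F) * J = J * (g : Matrix _ _ F) from
            Matrix.ext_iff_mulVec.mpr fun x => by
            rw [← Matrix.mulVec_mulVec, ← Matrix.mulVec_mulVec, h], mul_assoc, Units.mul_inv,
            mul_one, one_smul]
        · refine ⟨-1, by ring, ?_⟩
          rw [show (g : Matrix _ _ F) * J = -J * (g : Matrix _ _ F) from
            Matrix.ext_iff_mulVec.mpr fun x => by
            rw [← Matrix.mulVec_mulVec, ← Matrix.mulVec_mulVec, h, Matrix.neg_mulVec], mul_assoc,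
            Units.mul_inv, mul_one, neg_one_smul]
      intro x
      have hmap : ∀ a b : F, (g : Matrix _ _ F) * (a • 1 + b • J) *
          ((g⁻¹ : GL (Fin m ⊕ Fin m) F) : Matrix _ _ F) = a • 1 + (b * e) • J := fun a b => by
        simp only [mul_add, add_mul, Matrix.mul_smul, Matrix.smul_mul, mul_one, Units.mul_inv,
          hconj, smul_smul]
      have hmemK : ∀ a b : F, a • 1 + b • J ∈ K := fun a b =>
        add_mem (Subalgebra.smul_mem K (one_mem K) a) (Subalgebra.smul_mem K hJK b)
      constructor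
      · intro hx
        obtain ⟨a, b, rfl⟩ := hgen x hx
        rw [hmap]; exact hmemK _ _
      · intro hx
        obtain ⟨a, b, hab⟩ := hgen _ hx
        have h1 := hmap a (b * e)
        rw [mul_assoc b, he, mul_one, ← hab] at h1
        have h3 := congrArg (fun z => ((g⁻¹ : GL (Fin m ⊕ Fin m) F) : Matrix _ _ F) * z * (g : Matrix _ _ F)) h1
        simp only [mul_assoc, Units.inv_mul, mul_one] at h3
        simp only [← mul_assoc, Units.inv_mul, one_mul] at h3
        exact h3 ▸ hmemK _ _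
    · intro hg
      obtain ⟨a, b, hab⟩ := hgen _ ((hg J).mp hJK)
      have hgJ : (g : Matrix _ _ F) * J = a • (g : Matrix _ _ F) + b • (J * (g : Matrix _ _ F)) := by
        have := congrArg (· * (g : Matrix _ _ F)) hab
        simpa [mul_assoc, add_mul] using this
      have hsq : (g : Matrix _ _ F) * J * J = (a * a + b * b * μ) • (g : Matrix _ _ F) +
          (2 * a * b) • (J * (g : Matrix _ _ F)) := by
        rw [hgJ, add_mul, Matrix.smul_mul, Matrix.smul_mul, mul_assoc J, hgJ, mul_add,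
          Matrix.mul_smul, Matrix.mul_smul, ← mul_assoc, hJJ, Matrix.smul_mul, one_mul]
        module
      rw [mul_assoc, hJJ, Matrix.mul_smul, mul_one] at hsq
      have hind : ∀ c d : F, c • (g : Matrix _ _ F) + d • (J * (g : Matrix _ _ F)) = 0 → c = 0 ∧ d = 0 := by
        intro c d h
        have h1 := congrArg (· * ((g⁻¹ : GL (Fin m ⊕ Fin m) F) : Matrix _ _ F)) h
        simp only [add_mul, Matrix.smul_mul, mul_assoc, Units.mul_inv, mul_one, zero_mul] at h1
        exact LinearIndependent.pair_iff.mp hli c d h1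
      obtain ⟨e1, e2⟩ := hind (a * a + b * b * μ - μ) (2 * a * b) (by
        rw [sub_smul, ← sub_eq_zero.mpr hsq.symm]; abel)
      have ha : a = 0 := by
        by_contra ha
        have hb' : b = 0 := by simpa [h2, ha] using e2
        exact hs.nsq a (by rw [hb'] at e1; linear_combination e1)
      have hbb : b = 1 ∨ b = -1 := by
        rw [ha] at e1
        have h3 : b * b * μ = 1 * 1 * μ := by linear_combination e1
        exact mul_self_eq_mul_self_iff.mp (mul_right_cancel₀ (UnitaryInSp.mu_ne hs) h3)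
      rw [ha, zero_smul, zero_add] at hgJ
      rcases hbb with hbb | hbb
      · refine Or.inl fun x => ?_
        rw [Matrix.mulVec_mulVec, Matrix.mulVec_mulVec, hgJ, hbb, one_smul]
      · refine Or.inr fun x => ?_
        rw [Matrix.mulVec_mulVec, Matrix.mulVec_mulVec, hgJ, hbb, neg_one_smul, Matrix.neg_mulVec]
  refine MaxSub.isMaximalIn_of inf_le_right ?_ fun M hHM hMG g hg hgH =>
    Unitary.isom_le hs hn (fun u hu hc => hHM ⟨(hnorm u).mp (Or.inl hc), hu⟩) hg (hMG hg)
      fun h => hgH ⟨(hnorm g).mp h, hMG hg⟩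
  obtain ⟨x₀, hx₀⟩ : ∃ x : Fin m ⊕ Fin m → F, x ≠ 0 :=
    ⟨Pi.single (Sum.inl ⟨0, by omega⟩) 1, by simp⟩
  obtain ⟨p, hp, hpx⟩ := Unitary.exists_iso_dual hs hn hx₀
  have hp0 : p ≠ 0 := fun h => by
    rw [h, MaxSub.form_zero_left hb] at hpx
    exact zero_ne_one hpx
  refine ⟨MaxSub.st (sympForm m F) p 1, MaxSub.st_mem_isom hf p 1, fun hmem => ?_⟩
  rcases (hnorm _).mpr hmem.1 with h | h
  · obtain ⟨u, hu⟩ := (hf.nondegenerate p hp0).1
    have h1 := h u
    simp only [MaxSub.st_mulVec hf, Matrix.mulVec_add, Matrix.mulVec_smul, add_right_inj,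
      one_mul] at h1
    refine hp0 (UnitaryInSp.smul_eq_zero_K hs (a := sympForm m F (Matrix.mulVec J u) p)
      (b := -sympForm m F u p) ?_ (Or.inr (neg_ne_zero.mpr hu)))
    rw [h1]; module
  · have h1 := h p
    simp only [MaxSub.st_mulVec hf, hskew, hp, hf.alternating, neg_zero, mul_zero, zero_smul,
      add_zero] at h1
    refine hp0 (UnitaryInSp.smul_eq_zero_K hs (a := 0) (b := (2 : F)) ?_ (Or.inr h2))
    rw [zero_smul, zero_add, two_smul]
    exact eq_neg_iff_add_eq_zero.mp h1

end Cfsg.Agent.Sp6Geom34
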