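import Mathlib

/-!
The five letter word in two square-zero operators (helper34).
-/

set_option autoImplicit false

namespace Cfsg.Agent.Sp6Geom34

/-- `y(b) x(c) y(d) x(e) y(f)` on a vector killed by `X`, with `x(c) = 1 + cX`, `y(b) = 1 + bY`. -/
theorem word_apply {F V : Type*} [Field F] [AddCommGroup V] [Module F V] (X Y : V →ₗ[F] V)
    (hX : ∀ z, X (X z) = 0) (hY : ∀ z, Y (Y z) = 0) {l : V} (hl : X l = 0) (b c d e f : F) :
    let xc := fun (s : F) (z : V) => z + s • X z
    let yb := fun (s : F) (z : V) => z + s • Y z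
    yb b (xc c (yb d (xc e (yb f l)))) =
      (l + (e * f + c * f + c * d) • X (Y l) + (c * d * e * f) • X (Y (X (Y l)))) +
        ((b + d + f) • Y l + (b * c * d + b * c * f + b * e * f + d * e * f) • Y (X (Y l)) +
          (b * c * d * e * f) • Y (X (Y (X (Y l))))) := by
  intro xc yb
  simp only [xc, yb, map_add, map_smul, hX, hY, hl, smul_zero, add_zero, zero_add, smul_add,
    smul_smul]
  module

end Cfsg.Agent.Sp6Geom34
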