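import Cfsg.Agent.Sp6Geom34.TensorStable
import Cfsg.Agent.Sp6Geom34.Word

/-!
Two conjugates of a column meeting without being equal are impossible (helper66, after helper34).
-/

set_option autoImplicit false
set_option linter.unusedSectionVars false
set_option linter.unusedSimpArgs false

namespace Cfsg.Agent.Sp6Geom34.Tensor

open Matrix Cfsg.Agent.MaxSub Cfsg.Agent.TensorMax Cfsg.Agent.TensorInv Module

/-- An endomorphism of a space of dimension at most two satisfies a quadratic. -/
theorem exists_quad {K W : Type*} [Field K] [AddCommGroup W] [Module K W] [FiniteDimensional K W]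
    (h : finrank K W ≤ 2) (T : W →ₗ[K] W) :
    ∃ τ δ : K, ∀ x, T (T x) = τ • T x - δ • x := by
  classical
  rcases h.lt_or_eq with h1 | h2
  · obtain ⟨v, hv⟩ := finrank_le_one_iff.mp (Nat.lt_succ_iff.mp h1)
    obtain ⟨a, ha⟩ := hv (T v)
    refine ⟨a, 0, fun x => ?_⟩
    obtain ⟨c, rfl⟩ := hv x
    simp only [map_smul, ← ha]
    match_scalars
    ring
  · let b := Module.finBasisOfFinrankEq K W h2
    refine ⟨(LinearMap.toMatrix b b T).trace, (LinearMap.toMatrix b b T).det, fun x => ?_⟩
    have e : T ∘ₗ T = (LinearMap.toMatrix b b T).trace • T -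
        (LinearMap.toMatrix b b T).det • LinearMap.id := by
      refine (LinearMap.toMatrix b b).injective ?_
      rw [LinearMap.toMatrix_comp b b b, map_sub, map_smul, map_smul, LinearMap.toMatrix_id]
      generalize LinearMap.toMatrix b b T = M
      ext i j
      fin_cases i <;> fin_cases j <;>
        simp [Matrix.mul_apply, Fin.sum_univ_two, Matrix.det_fin_two, Matrix.trace_fin_two] <;> ring
    exact LinearMap.congr_fun e x

/-- A good parameter when the operator is of quadratic type zero. -/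
theorem exists_param_deg {F : Type*} [Field F] [Fintype F] (h2 : (2 : F) ≠ 0)
    (h5 : 5 ≤ Fintype.card F) (ν : F) : ∃ c : F, c ≠ 0 ∧ ν * c + 2 ≠ 0 ∧ ν * c + 4 ≠ 0 := by
  classical
  obtain ⟨c, -, hc⟩ := Finset.exists_mem_notMem_of_card_lt_card
    (s := ({0, -2 / ν, -4 / ν} : Finset F)) (t := Finset.univ)
    (Finset.card_le_three.trans_lt (by rw [Finset.card_univ]; omega))
  simp only [Finset.mem_insert, Finset.mem_singleton, not_or] at hc
  have h4 : (4 : F) ≠ 0 := by
    rw [show (4 : F) = 2 * 2 by norm_num]; exact mul_ne_zero h2 h2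
  refine ⟨c, hc.1, fun h => hc.2.1 ?_, fun h => hc.2.2 ?_⟩
  · have hν : ν ≠ 0 := fun h0 => h2 (by rw [h0] at h; simpa using h)
    field_simp
    linear_combination h
  · have hν : ν ≠ 0 := fun h0 => h4 (by rw [h0] at h; simpa using h)
    field_simp
    linear_combination h

theorem param_five : ∀ t d : ZMod 5, ∃ c : ZMod 5, c ≠ 0 ∧ d * c ^ 2 + t * c + 2 ≠ 0 ∧
    d * c ^ 2 + 2 * t * c + 4 ≠ 0 ∧ t * c + 4 ≠ 0 := by decide +kernel

/-- A good parameter in the general case. -/
theorem exists_param {F : Type*} [Field F] [Fintype F] (hodd : Odd (Fintype.card F))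
    (h5 : 5 ≤ Fintype.card F) (τ δ : F) :
    ∃ c : F, c ≠ 0 ∧ δ * c ^ 2 + τ * c + 2 ≠ 0 ∧ δ * c ^ 2 + 2 * τ * c + 4 ≠ 0 ∧ τ * c + 4 ≠ 0 := by
  classical
  rcases h5.lt_or_eq with h | h
  · have h7 : 6 < Fintype.card F := by
      obtain ⟨j, hj⟩ := hodd
      omega
    have h2 : (2 : F) ≠ 0 := fun h0 => by
      have := CharP.ringChar_of_prime_eq_zero (R := F) Nat.prime_two (by exact_mod_cast h0)
      exact Nat.not_odd_iff_even.mpr
        (Nat.even_iff.mpr (FiniteField.even_card_iff_char_two.mp this)) hodd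
    have h4 : (4 : F) ≠ 0 := by
      rw [show (4 : F) = 2 * 2 by norm_num]; exact mul_ne_zero h2 h2
    set p : Polynomial F := Polynomial.X *
      ((Polynomial.C δ * Polynomial.X ^ 2 + Polynomial.C τ * Polynomial.X + Polynomial.C 2) *
      ((Polynomial.C δ * Polynomial.X ^ 2 + Polynomial.C (2 * τ) * Polynomial.X + Polynomial.C 4) *
        (Polynomial.C τ * Polynomial.X + Polynomial.C 4))) with hp
    have hp0 : p ≠ 0 := by
      refine mul_ne_zero Polynomial.X_ne_zero (mul_ne_zero ?_ (mul_ne_zero ?_ ?_)) <;>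
        intro h0 <;> replace h0 := congrArg (Polynomial.eval 0) h0 <;> simp at h0
      · exact h2 h0
      · exact h4 h0
      · exact h4 h0
    have hd : p.natDegree ≤ 1 + (2 + (2 + 1)) :=
      Polynomial.natDegree_mul_le_of_le Polynomial.natDegree_X_le
        (Polynomial.natDegree_mul_le_of_le Polynomial.natDegree_quadratic_le
          (Polynomial.natDegree_mul_le_of_le Polynomial.natDegree_quadratic_le
            Polynomial.natDegree_linear_le))
    obtain ⟨c, hc⟩ : ∃ c, p.eval c ≠ 0 := by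
      by_contra hn
      push Not at hn
      exact hp0 (Polynomial.eq_zero_of_natDegree_lt_card_of_eval_eq_zero p Function.injective_id hn
        (by omega))
    refine ⟨c, ?_⟩
    simpa [hp, mul_eq_zero, not_or] using hc
  · haveI : Fact (Nat.Prime 5) := ⟨by norm_num⟩
    haveI : CharP F 5 := charP_of_card_eq_prime h.symm
    have key := param_five
    let e : ZMod 5 ≃+* F := ZMod.ringEquiv F h.symm
    obtain ⟨c, hc0, hc1, hc2, hc3⟩ := key (e.symm τ) (e.symm δ)
    have he : ∀ x : ZMod 5, x ≠ 0 → e x ≠ 0 := fun x hx h0 => hx (e.injective (h0.trans (map_zero e).symm))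
    exact ⟨e c, he c hc0, by simpa [map_ofNat] using he _ hc1, by simpa [map_ofNat] using he _ hc2,
      by simpa [map_ofNat] using he _ hc3⟩

variable {F : Type*} [Field F] [Fintype F] {S : TForm F 3 2}
  {H : Subgroup (GL (Fin 3 × Fin 2) F)} {n n' : Fin 2 → F}
  (O : Over S H) (hε : S.ε = 1) (hR : ¬ Root S H) (h5 : 5 ≤ Fintype.card F)

/-- The contraction of the image of a column. -/
abbrev theta (S : TForm F 3 2) (n : Fin 2 → F) (k : GL (Fin 3 × Fin 2) F) :
    (Fin 3 → F) →ₗ[F] (Fin 3 → F) :=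
  S.pi n ∘ₗ act k⁻¹ ∘ₗ emb n

theorem exists_sq_ne_one (h5 : 5 ≤ Fintype.card F) : ∃ t : F, t ≠ 0 ∧ t ^ 2 ≠ 1 := by
  classical
  obtain ⟨t, -, ht⟩ := Finset.exists_mem_notMem_of_card_lt_card
    (s := ({0, 1, -1} : Finset F)) (t := Finset.univ)
    (Finset.card_le_three.trans_lt (by rw [Finset.card_univ]; omega))
  simp only [Finset.mem_insert, Finset.mem_singleton, not_or] at ht
  exact ⟨t, ht.1, fun h => (sq_eq_one_iff.1 h).elim ht.2.1 ht.2.2⟩

include O hε hR h5

/-- A column and its image meeting in a proper non-zero subspace: impossible. -/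
theorem partial_false (P : Pair S n n') {k : GL (Fin 3 × Fin 2) F} (hk : k ∈ H) {p₀ : Fin 3 → F}
    (hp₀ : p₀ ≠ 0) (hθ₀ : theta S n k p₀ = 0) {p₁ : Fin 3 → F} (hθ₁ : theta S n k p₁ ≠ 0) :
    False := by
  classical
  have hq := exists_sq_ne_one h5
  have hf := S.sym₁ hε
  have h2 := S.two
  have hn0 := pair_ne P
  set θ := theta S n k with hθdef
  have hθ : ∀ p, θ p = S.pi n (act k⁻¹ (emb n p)) := fun p => rfl
  let Pm : (Fin 3 → F) →ₗ[F] (Fin 3 → F) := S.pi n ∘ₗ act k ∘ₗ emb n ∘ₗ θ
  have hPm : ∀ p, Pm p = S.pi n (act k (emb n (θ p))) := fun p => rfl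
  have hPsym : ∀ s t, S.f₁ t (Pm s) = -S.f₁ (θ s) (θ t) := fun s t => by
    rw [hPm, ← S.om_emb, hθ t, ← S.om_emb_right n (θ s) (act k⁻¹ (emb n t)),
      S.om_act_left (O.isom (inv_mem hk)), inv_inv]
  have hsa : ∀ s t, S.f₁ (Pm s) t = S.f₁ s (Pm t) := fun s t => by
    rw [hf.symm t (Pm s), hPsym, hPsym, hf.symm (θ t) (θ s)]
  -- the conjugate transvections
  let Xm : V F 3 2 →ₗ[F] V F 3 2 := emb n ∘ₗ S.pi n
  let Ym : V F 3 2 →ₗ[F] V F 3 2 := act k ∘ₗ emb n ∘ₗ S.pi n ∘ₗ act k⁻¹
  let y : F → GL (Fin 3 × Fin 2) F := fun b => k * xT S hε n b * k⁻¹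
  have hyH : ∀ b, y b ∈ H := fun b => mul_mem (mul_mem hk (xT_mem O hε b)) (inv_mem hk)
  have hy : ∀ b z, act (y b) z = z + b • Ym z := fun b z => by
    simp only [y, act_mul, xT_apply, map_add, map_smul, act_act_inv]
    rfl
  have hXX : ∀ z, Xm (Xm z) = 0 := fun z => by
    show emb n (S.pi n (emb n _)) = 0
    rw [pi_self P, map_zero]
  have hYY : ∀ z, Ym (Ym z) = 0 := fun z => by
    show act k (emb n (S.pi n (act k⁻¹ (act k (emb n _))))) = 0
    rw [act_inv_act, pi_self P, map_zero, map_zero]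
  have hYe : ∀ p, Ym (emb n p) = act k (emb n (θ p)) := fun p => rfl
  have hXY : ∀ p, Xm (Ym (emb n p)) = emb n (Pm p) := fun p => rfl
  by_cases hP0 : ∀ p, Pm p = 0
  · -- the transvection of the image stabilises the column
    let N : (Fin 3 → F) →ₗ[F] (Fin 3 → F) := -(S.pi n' ∘ₗ act k ∘ₗ emb n ∘ₗ θ)
    have hN : ∀ p, act k (emb n (θ p)) = emb n (N p) := fun p =>
      mem_col hε P (by rw [← hPm]; exact hP0 p)
    have hθN : ∀ p, θ (N p) = 0 := fun p => by
      rw [hθ, ← hN, act_inv_act, pi_self P]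
    have hN0 : ∀ p, θ p = 0 → N p = 0 := fun p hp => emb_injective hn0 (by
      rw [← hN, hp, map_zero, map_zero])
    have hNθ : ∀ p, N p = 0 → θ p = 0 := fun p hp => emb_injective hn0 (act_injective k (by
      rw [hN, hp, map_zero, map_zero]))
    have hα : ∀ p, act (y 1) (emb n p) = emb n ((LinearMap.id + N : _ →ₗ[F] _) p) := fun p => by
      rw [hy, one_smul, hYe, hN, LinearMap.add_apply, LinearMap.id_apply, map_add]
    obtain ⟨c, -, hc⟩ := stable_similitude O hε hR hq P (hyH 1) hα
    simp only [LinearMap.add_apply, LinearMap.id_apply] at hc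
    have hc1 : c = 1 := by
      by_cases hiso : ∃ i, θ i = 0 ∧ S.f₁ i i ≠ 0
      · obtain ⟨i, hi, hii⟩ := hiso
        have := hc i i
        rw [hN0 i hi, add_zero] at this
        exact (mul_eq_right₀ hii).mp this.symm
      push Not at hiso
      obtain ⟨p, hp⟩ : ∃ p, S.f₁ p₀ p ≠ 0 := by
        by_contra hn
        push Not at hn
        exact hp₀ (hf.nd _ hn)
      have hperp : S.f₁ p₀ (N p) = 0 := hf.polar (hiso _ hθ₀) (hiso _ (hθN p))
        (hiso _ (by rw [map_add, hθ₀, hθN, add_zero]))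
      have := hc p₀ p
      rw [hN0 p₀ hθ₀, add_zero, map_add, hperp, add_zero] at this
      exact (mul_eq_right₀ hp).mp this.symm
    subst hc1
    have hskew : ∀ p q, S.f₁ (N p) q + S.f₁ p (N q) + S.f₁ (N p) (N q) = 0 := fun p q => by
      have := hc p q
      simp only [map_add, LinearMap.add_apply] at this
      linear_combination this
    have hNN : ∀ p q, S.f₁ (N p) (N q) = 0 := fun p q => by
      have := hskew p (N q)
      simpa [hN0 _ (hθN q)] using this
    have hrank : finrank F (LinearMap.range N) ≤ 1 := by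
      have h1 := LinearMap.finrank_range_add_finrank_ker N
      have h3 : LinearMap.range N ≤ LinearMap.ker N := by
        rintro _ ⟨p, rfl⟩
        exact LinearMap.mem_ker.mpr (hN0 _ (hθN p))
      have := Submodule.finrank_mono h3
      rw [finrank_fin_fun] at h1
      omega
    obtain ⟨⟨w, hw⟩, hwspan⟩ := finrank_le_one_iff.mp hrank
    choose a ha using fun p => hwspan ⟨N p, LinearMap.mem_range_self N p⟩
    have ha' : ∀ p, N p = a p • w := fun p => (congrArg Subtype.val (ha p)).symm
    have hN1 : N p₁ ≠ 0 := fun h0 => hθ₁ (hNθ _ h0)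
    have e : ∀ p q, a p * S.f₁ w q + a q * S.f₁ p w = 0 := fun p q => by
      have := hskew p q
      rw [hNN, add_zero, ha', ha', map_smul, map_smul, LinearMap.smul_apply, smul_eq_mul,
        smul_eq_mul] at this
      exact this
    have ha1 : a p₁ ≠ 0 := fun h0 => hN1 (by rw [ha', h0, zero_smul])
    have hwp : S.f₁ p₁ w = 0 := by
      have := e p₁ p₁
      rw [hf.symm p₁ w] at this
      exact (mul_eq_zero.1 (show (2 * a p₁) * S.f₁ p₁ w = 0 by linear_combination this)).resolve_left
        (mul_ne_zero h2 ha1)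
    refine hN1 ?_
    rw [ha', hf.nd w fun q => ?_, smul_zero]
    have := e p₁ q
    rw [hwp, mul_zero, add_zero] at this
    exact (mul_eq_zero.1 this).resolve_left ha1
  push Not at hP0
  obtain ⟨p₂, hp₂⟩ := hP0
  have hPker : ∀ p, θ p = 0 → Pm p = 0 := fun p hp => by
    rw [hPm, hp, map_zero, map_zero, map_zero]
  -- the word
  have word : ∀ τ δ c : F, (∀ p, θ (Pm (Pm p)) = τ • θ (Pm p) - δ • θ p) → c ≠ 0 →
      δ * c ^ 2 + τ * c + 2 ≠ 0 → δ * c ^ 2 + 2 * τ * c + 4 ≠ 0 →
      ∀ p,
        let kk := c ^ 2 / (δ * c ^ 2 + τ * c + 2)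
        let D := fun p => p + (-(kk / c) - τ * kk) • Pm p + kk • Pm (Pm p)
        D (D p) = p := by
    intro τ δ c hθP hc hden hf' p kk D
    set f := kk * δ - 2 with hfdef
    have hkk : kk ≠ 0 := div_ne_zero (pow_ne_zero 2 hc) hden
    have hf0 : f ≠ 0 := fun h0 => by
      have : f * (δ * c ^ 2 + τ * c + 2) = -(δ * c ^ 2 + 2 * τ * c + 4) := by
        rw [hfdef, sub_mul, mul_right_comm, div_mul_cancel₀ _ hden]; ring
      rw [h0, zero_mul] at this
      exact hf' (neg_eq_zero.1 this.symm)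
    set e := kk / (f * c) with hedef
    have hef : e * f = kk / c := by
      rw [hedef, div_mul_eq_mul_div, mul_comm f c, mul_div_mul_right _ _ hf0]
    have hcef : c * e * f = kk := by rw [mul_assoc, hef, mul_div_cancel₀ _ hc]
    have hs : c + c * f + 2 * (kk / c) + kk * τ = 0 := by
      have hkd : kk * (δ * c ^ 2 + τ * c + 2) = c ^ 2 := div_mul_cancel₀ _ hden
      rw [hfdef]
      field_simp
      linear_combination hkd
    have hu : e * f + c * f + c = -(kk / c) - τ * kk := by linear_combination hef + hs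
    let Dl : (Fin 3 → F) →ₗ[F] (Fin 3 → F) :=
      LinearMap.id + (-(kk / c) - τ * kk) • Pm + kk • (Pm ∘ₗ Pm)
    have hDl : ∀ p, Dl p = D p := fun p => rfl
    set w := y 1 * xT S hε n c * y 1 * xT S hε n e * y f with hwdef
    have hwH : w ∈ H := mul_mem (mul_mem (mul_mem (mul_mem (hyH _) (xT_mem O hε _)) (hyH _))
      (xT_mem O hε _)) (hyH _)
    have hwa : ∀ p, act w (emb n p) = emb n (Dl p) := fun p => by
      have hx : ∀ s z, act (xT S hε n s) z = z + s • Xm z := fun s z => xT_apply hε s z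
      have := word_apply Xm Ym hXX hYY (l := emb n p)
        (by show emb n (S.pi n (emb n p)) = 0; rw [pi_self P, map_zero]) 1 c 1 e f
      simp only [one_smul] at this
      rw [hwdef, act_mul, act_mul, act_mul, act_mul, hy, hy, hy, hx, hx, one_smul, one_smul, this,
        hXY, hXY, hYe, hYe, hYe, hDl]
      simp only [one_mul, mul_one, hu, hcef]
      rw [← map_smul (act k), ← map_smul (act k), ← map_smul (act k), ← map_add (act k),
        ← map_add (act k), ← map_smul (emb n) _ (θ p), ← map_smul (emb n) _ (θ (Pm p)),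
        ← map_smul (emb n) _ (θ (Pm (Pm p))), ← map_add (emb n), ← map_add (emb n), hθP]
      have h0 : (1 + 1 + f) • θ p + (c + c * f + e * f + e * f) • θ (Pm p) +
          kk • (τ • θ (Pm p) - δ • θ p) = 0 := by
        rw [hef]
        match_scalars
        · rw [hfdef]; ring
        · linear_combination hs
      rw [h0, map_zero, map_zero, add_zero]
      simp only [D, map_add, map_smul]
    obtain ⟨c', -, hsim⟩ := stable_similitude O hε hR hq P hwH hwa
    have hDsa : ∀ s t, S.f₁ (Dl s) t = S.f₁ s (Dl t) := fun s t => by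
      simp only [Dl, LinearMap.add_apply, LinearMap.id_apply, LinearMap.smul_apply,
        LinearMap.comp_apply, map_add, map_smul, smul_eq_mul, hsa]
    have hD0 : Dl p₀ = p₀ := by
      simp [Dl, hPker _ hθ₀]
    have hc1 : c' = 1 := by
      obtain ⟨q, hq'⟩ : ∃ q, S.f₁ p₀ q ≠ 0 := by
        by_contra hn
        push Not at hn
        exact hp₀ (hf.nd _ hn)
      have := hsim p₀ q
      rw [hD0, ← hDsa, hD0] at this
      exact (mul_eq_right₀ hq').mp this.symm
    subst hc1
    rw [← hDl, ← hDl]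
    refine S.eq₁ fun t => ?_
    rw [← hDsa, hsim, one_mul]
  by_cases hν : ∃ ν : F, ∀ p, Pm (Pm p) = ν • Pm p
  · obtain ⟨ν, hν⟩ := hν
    obtain ⟨c, hc0, hc2, hc4⟩ := exists_param_deg h2 h5 ν
    have := word ν 0 c (fun p => by rw [hν, map_smul, zero_smul, sub_zero]) hc0
      (by simpa using hc2) (fun h0 => hc2 (mul_left_cancel₀ h2 (by linear_combination h0))) p₂
    simp only [map_add, map_smul, hν, zero_mul, zero_add] at this
    set kk := c ^ 2 / (ν * c + 2) with hkk
    set g := -(kk / c) with hg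
    have e : (g * (2 + g * ν)) • Pm p₂ = 0 := by
      linear_combination (norm := (match_scalars <;> ring)) this
    refine hp₂ ((smul_eq_zero.1 e).resolve_left ?_)
    rw [show g = -(c / (ν * c + 2)) by rw [hg, hkk]; field_simp]
    rw [show 2 + -(c / (ν * c + 2)) * ν = (ν * c + 4) / (ν * c + 2) by
      rw [eq_div_iff hc2, add_mul, neg_mul, neg_mul, div_mul_eq_mul_div, div_mul_cancel₀ _ hc2]
      ring]
    exact mul_ne_zero (neg_ne_zero.2 (div_ne_zero hc0 hc2)) (div_ne_zero hc4 hc2)
  -- the general case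
  set K := LinearMap.ker θ
  have hKP : K ≤ K.comap Pm := fun p hp => by
    rw [Submodule.mem_comap, LinearMap.mem_ker, hPker p hp, map_zero]
  have hKpos : 1 ≤ finrank F K := Submodule.one_le_finrank_iff.mpr
    fun h => hp₀ ((Submodule.mem_bot F).mp (h ▸ (LinearMap.mem_ker.mpr hθ₀ : p₀ ∈ K)))
  have hdim : finrank F ((Fin 3 → F) ⧸ K) ≤ 2 := by
    have := K.finrank_quotient_add_finrank
    rw [finrank_fin_fun] at this
    omega
  obtain ⟨τ, δ, hτδ⟩ := exists_quad hdim (K.mapQ K Pm hKP)
  have hθP : ∀ p, θ (Pm (Pm p)) = τ • θ (Pm p) - δ • θ p := fun p => by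
    have h1 := hτδ (Submodule.Quotient.mk p)
    rw [Submodule.mapQ_apply, Submodule.mapQ_apply, ← Submodule.Quotient.mk_smul,
      ← Submodule.Quotient.mk_smul, ← Submodule.Quotient.mk_sub, Submodule.Quotient.eq] at h1
    simpa [K, sub_eq_zero] using h1
  have hP3 : ∀ p, Pm (Pm (Pm p)) = τ • Pm (Pm p) - δ • Pm p := fun p => by
    rw [hPm (Pm (Pm p)), hθP]
    simp only [map_sub, map_smul, ← hPm]
  have hodd : Odd (Fintype.card F) := by
    rw [Nat.odd_iff]
    refine FiniteField.odd_card_of_char_ne_two fun h => h2 ?_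
    have := ringChar.of_eq h
    exact CharTwo.two_eq_zero
  obtain ⟨c, hc0, hden, hf', hc4⟩ := exists_param hodd h5 τ δ
  set den := δ * c ^ 2 + τ * c + 2 with hdendef
  set kk := c ^ 2 / den with hkk
  set α := 1 - kk * δ with hα
  set β := -(kk / c) with hβ
  refine hν ⟨-(α ^ 2 - β ^ 2 * δ - 1) / (β * (2 * α + β * τ)), fun p => ?_⟩
  have h1 := congrArg Pm (word τ δ c hθP hc0 hden hf' p)
  simp only [map_add, map_smul, map_sub, hP3] at h1
  have hb : β * (2 * α + β * τ) ≠ 0 := by
    have e : 2 * α + β * τ = (τ * c + 4) / den := by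
      rw [hα, hβ, hkk]
      field_simp
      rw [hdendef]; ring
    rw [e, hβ, hkk]
    exact mul_ne_zero (neg_ne_zero.2 (div_ne_zero (div_ne_zero (pow_ne_zero 2 hc0) hden) hc0))
      (div_ne_zero hc4 hden)
  have e : (β * (2 * α + β * τ)) • Pm (Pm p) = (-(α ^ 2 - β ^ 2 * δ - 1)) • Pm p := by
    linear_combination (norm := (match_scalars <;> (simp only [hα, hβ]; ring))) h1
  rw [div_eq_mul_inv, mul_comm, ← smul_smul, ← e, inv_smul_smul₀ hb]

end Cfsg.Agent.Sp6Geom34.Tensor
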