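import Cfsg.Agent.SpGeo11.TensorGlue

/-!
The stabiliser of `O₃ ⊗ Sp₂` inside a group without root elements: an element carrying a column to a
column is a product (helper66).
-/

set_option autoImplicit false
set_option linter.unusedSectionVars false
set_option linter.unusedSimpArgs false

namespace Cfsg.Agent.Sp6Geom34.Tensor

open Matrix Cfsg.Agent.MaxSub Cfsg.Agent.TensorMax Cfsg.Agent.TensorInv Module

variable {F : Type*} [Field F] {S : TForm F 3 2}
  {H : Subgroup (GL (Fin 3 × Fin 2) F)} {n n' : Fin 2 → F}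

theorem pair_ne (P : Pair S n n') : n ≠ 0 := fun h => by
  have := P.nn'
  simp [h] at this

theorem f₂_n'n (hε : S.ε = 1) (P : Pair S n n') : S.f₂ n' n = -1 := by
  rw [S.skew₂ hε n n', P.nn']

/-- Coordinates along a hyperbolic pair of the plane. -/
theorem expand₂ (hε : S.ε = 1) (P : Pair S n n') (w : Fin 2 → F) :
    w = S.f₂ n w • n' - S.f₂ n' w • n := by
  have hli : LinearIndependent F ![n, n'] := by
    refine LinearIndependent.pair_iff.mpr fun s t h => ⟨?_, ?_⟩
    · simpa [map_add, map_smul, P.n'n', f₂_n'n hε P] using congrArg (S.f₂ n') h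
    · simpa [map_add, map_smul, P.nn, P.nn'] using congrArg (S.f₂ n) h
  have hsp : Submodule.span F (Set.range ![n, n']) = ⊤ :=
    hli.span_eq_top_of_card_eq_finrank (by simp)
  have hw : w ∈ Submodule.span F (Set.range ![n, n']) := hsp ▸ Submodule.mem_top
  obtain ⟨c, rfl⟩ := (Submodule.mem_span_range_iff_exists_fun F).mp hw
  simp [Fin.sum_univ_two, P.nn, P.nn', P.n'n', f₂_n'n hε P]
  abel

theorem decomp₂ (hε : S.ε = 1) (P : Pair S n n') (z : V F 3 2) :
    z = emb n' (S.pi n z) - emb n (S.pi n' z) := by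
  refine ext_emb (f := LinearMap.id)
    (g := emb n' ∘ₗ S.pi n - emb n ∘ₗ S.pi n') (fun w x => ?_) z
  simp only [LinearMap.id_apply, LinearMap.sub_apply, LinearMap.comp_apply, S.pi_emb]
  conv_lhs => rw [expand₂ hε P w, emb_sub_left, emb_smul_left, emb_smul_left, ← map_smul, ← map_smul]

theorem pi_self (P : Pair S n n') (x : Fin 3 → F) : S.pi n (emb n x) = 0 := by
  rw [S.pi_emb, P.nn, zero_smul]

theorem pi_n' (P : Pair S n n') (x : Fin 3 → F) : S.pi n (emb n' x) = x := by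
  rw [S.pi_emb, P.nn', one_smul]

theorem mem_col (hε : S.ε = 1) (P : Pair S n n') {z : V F 3 2} (h : S.pi n z = 0) :
    z = emb n (-S.pi n' z) := by
  conv_lhs => rw [decomp₂ hε P z, h, map_zero, zero_sub]
  rw [map_neg]

/-- The transvections of the plane, acting on the product. -/
noncomputable abbrev xT (S : TForm F 3 2) (hε : S.ε = 1) (n : Fin 2 → F) (c : F) :
    GL (Fin 3 × Fin 2) F :=
  kr 1 (trans S.f₂ (S.alt₂ hε) n c)

theorem xT_apply (hε : S.ε = 1) (c : F) (z : V F 3 2) :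
    act (xT S hε n c) z = z + c • emb n (S.pi n z) := by
  refine ext_emb (f := act (xT S hε n c))
    (g := LinearMap.id + c • (emb n ∘ₗ S.pi n)) (fun w x => ?_) z
  rw [act_kr, act_one, trans_apply, emb_add_left, emb_smul_left]
  simp only [LinearMap.add_apply, LinearMap.id_apply, LinearMap.smul_apply, LinearMap.comp_apply,
    S.pi_emb, map_smul, smul_smul]

theorem xT_mem (O : Over S H) (hε : S.ε = 1) (c : F) : xT S hε n c ∈ H :=
  O.right (trans_form (S.alt₂ hε) (S.skew₂ hε) n c)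

/-- An element fixing a column sends the contraction to a multiple. -/
theorem pi_inv_image {h : GL (Fin 3 × Fin 2) F} (hh : h ∈ isom S.om)
    {α : (Fin 3 → F) →ₗ[F] (Fin 3 → F)} (hα : ∀ x, act h (emb n x) = emb n (α x))
    (x : Fin 3 → F) (z : V F 3 2) :
    S.f₁ x (S.pi n (act h⁻¹ z)) = S.f₁ (α x) (S.pi n z) := by
  rw [← S.om_emb, ← S.om_emb, ← hα, S.om_act_left hh]

variable [Finite F] (O : Over S H) (hε : S.ε = 1) (hR : ¬ Root S H)
  (hq : ∃ t : F, t ≠ 0 ∧ t ^ 2 ≠ 1)

include O hε hR hq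

/-- An element stabilising a column acts on it as a similitude. -/
theorem stable_similitude (P : Pair S n n') {h : GL (Fin 3 × Fin 2) F} (hh : h ∈ H)
    {α : (Fin 3 → F) →ₗ[F] (Fin 3 → F)} (hα : ∀ x, act h (emb n x) = emb n (α x)) :
    ∃ c : F, c ≠ 0 ∧ ∀ x y, S.f₁ (α x) (α y) = c * S.f₁ x y := by
  have hC := cent_symm O hε le_rfl (Or.inr hq) P hR
  have hhi := O.isom hh
  have hinj : Function.Injective α := fun x y hxy =>
    emb_injective (pair_ne P) (act_injective h (by rw [hα, hα, hxy]))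
  have hsurj : Function.Surjective α := LinearMap.injective_iff_surjective.mp hinj
  let ψ : (Fin 3 → F) →ₗ[F] (Fin 3 → F) := α ∘ₗ S.pi n ∘ₗ act h⁻¹ ∘ₗ emb n'
  obtain ⟨c, hc⟩ := hC (h * xT S hε n 1 * h⁻¹)
    (mul_mem (mul_mem hh (xT_mem O hε 1)) (inv_mem hh)) ψ fun z => by
      rw [act_mul, act_mul, xT_apply, map_add, act_act_inv, one_smul, hα]
      congr 2
      show _ = α (S.pi n (act h⁻¹ (emb n' (S.pi n z))))
      congr 1
      refine S.eq₁ fun x => ?_
      rw [pi_inv_image hhi hα, pi_inv_image hhi hα, pi_n' P]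
  have hsim : ∀ x y, S.f₁ (α x) (α y) = c * S.f₁ x y := by
    intro x y
    have h1 : S.pi n (act h⁻¹ (emb n' (α y))) = c • y := hinj (by rw [map_smul]; exact hc (α y))
    have h2 := pi_inv_image hhi hα x (emb n' (α y))
    rw [h1, pi_n' P, map_smul, smul_eq_mul] at h2
    exact h2.symm
  refine ⟨c, fun h0 => ?_, hsim⟩
  obtain ⟨v, hv⟩ := (S.sym₁ hε).exists_aniso (by omega)
  obtain ⟨x, rfl⟩ := hsurj v
  rw [hsim, h0, zero_mul] at hv
  exact hv rfl

/-- An element stabilising a column is a product. -/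
theorem kron_of_stable₂ (P : Pair S n n') {h : GL (Fin 3 × Fin 2) F} (hh : h ∈ H)
    (hline : ∀ x, ∃ y, act h (emb n x) = emb n y) :
    h ∈ Cfsg.Geo.kroneckerSubgroup 3 2 F := by
  let α : (Fin 3 → F) →ₗ[F] (Fin 3 → F) := -(S.pi n' ∘ₗ act h ∘ₗ emb n)
  have hα : ∀ x, act h (emb n x) = emb n (α x) := fun x => by
    obtain ⟨y, hy⟩ := hline x
    rw [hy]
    congr 1
    show y = -(S.pi n' (act h (emb n x)))
    rw [hy, S.pi_emb, f₂_n'n hε P, neg_one_smul, neg_neg]
  obtain ⟨c, hc0, hsim⟩ := stable_similitude O hε hR hq P hh hα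
  have hinj : Function.Injective α := fun x y hxy =>
    emb_injective (pair_ne P) (act_injective h (by rw [hα, hα, hxy]))
  let e := LinearEquiv.ofBijective α ⟨hinj, LinearMap.injective_iff_surjective.mp hinj⟩
  let A : GL (Fin 3) F := mkGL α e.symm.toLinearMap e.apply_symm_apply e.symm_apply_apply
  have hA : ∀ x, act A x = α x := fun x => mkGL_mulVec _ _ _ _ x
  let km : F → (Fin 2 → F) →ₗ[F] (Fin 2 → F) := fun d =>
    (d • S.f₂ n).smulRight n' - (S.f₂ n').smulRight n
  have hkm : ∀ d w, km d w = (d * S.f₂ n w) • n' - S.f₂ n' w • n := fun d w => by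
    simp [km]
  have hkk : ∀ d d' w, d * d' = 1 → km d (km d' w) = w := fun d d' w hd => by
    conv_rhs => rw [expand₂ hε P w]
    simp only [hkm, map_sub, map_smul, smul_eq_mul, P.nn, P.nn', P.n'n', f₂_n'n hε P]
    match_scalars <;> first | linear_combination (S.f₂ n w) * hd | linear_combination -(S.f₂ n w) * hd | ring
  let k : GL (Fin 2) F := mkGL (km c⁻¹) (km c) (fun w => hkk _ _ w (inv_mul_cancel₀ hc0))
    (fun w => hkk _ _ w (mul_inv_cancel₀ hc0))
  have hk : ∀ w, act k w = km c⁻¹ w := fun w => mkGL_mulVec _ _ _ _ w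
  have hAk : kr A k ∈ isom S.om := S.kr_mem_isom (μ := c) (ν := c⁻¹) (mul_inv_cancel₀ hc0)
    (fun x y => by rw [hA, hA, hsim]) (fun v w => by
      conv_rhs => rw [expand₂ hε P v, expand₂ hε P w]
      simp only [hk, hkm, map_sub, map_smul, LinearMap.sub_apply, LinearMap.smul_apply,
        smul_eq_mul, P.nn, P.nn', P.n'n', f₂_n'n hε P]
      ring)
  have hkn : act k n = n := by
    rw [hk, hkm, P.nn, f₂_n'n hε P]; simp
  set h₁ := (kr A k)⁻¹ * h with hh₁
  have hh₁H : h₁ ∈ H := mul_mem (inv_mem (O.kr_mem _ _ hAk)) hh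
  have hfix : ∀ x, act h₁ (emb n x) = emb n x := fun x => by
    rw [hh₁, act_mul, hα]
    conv_lhs => rw [show emb n (α x) = act (kr A k) (emb n x) by rw [act_kr, hkn, hA]]
    rw [act_inv_act]
  have hpi : ∀ z, S.pi n (act h₁ z) = S.pi n z := fun z => S.eq₁ fun x => by
    rw [← S.om_emb, ← S.om_emb]
    conv_lhs => rw [← hfix x]
    exact S.om_act (O.isom hh₁H) _ _
  let ψ : (Fin 3 → F) →ₗ[F] (Fin 3 → F) := -(S.pi n' ∘ₗ (act h₁ - LinearMap.id) ∘ₗ emb n')
  have hψ : ∀ z, act h₁ z = z + emb n (ψ (S.pi n z)) := fun z => by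
    have h0 := mem_col hε P (z := act h₁ (emb n' (S.pi n z)) - emb n' (S.pi n z))
      (by rw [map_sub, hpi, sub_self])
    have e1 : act h₁ z = act h₁ (emb n' (S.pi n z)) - emb n (S.pi n' z) := by
      conv_lhs => rw [decomp₂ hε P z, map_sub, hfix]
    rw [e1, show act h₁ (emb n' (S.pi n z)) = emb n' (S.pi n z) + emb n (ψ (S.pi n z)) from
      eq_add_of_sub_eq' h0]
    conv_rhs => arg 1; rw [decomp₂ hε P z]
    abel
  obtain ⟨d, hd⟩ := cent_symm O hε le_rfl (Or.inr hq) P hR h₁ hh₁H ψ hψ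
  have hx : h₁ = xT S hε n d := gl_ext fun z => by
    show act h₁ z = act (xT S hε n d) z
    rw [hψ, hd, xT_apply, map_smul]
  have : h = kr A k * xT S hε n d := by rw [← hx, hh₁, mul_inv_cancel_left]
  rw [this]
  exact mul_mem (kr_mem A k) (kr_mem _ _)

/-- An element carrying a column to a column is a product. -/
theorem kron_of_column {h : GL (Fin 3 × Fin 2) F} (hh : h ∈ H) {w m : Fin 2 → F} (hw : w ≠ 0)
    (hm : m ≠ 0) (hl : ∀ x, ∃ y, act h (emb w x) = emb m y) :
    h ∈ Cfsg.Geo.kroneckerSubgroup 3 2 F := by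
  have halt := S.alt₂ hε
  obtain ⟨z, hz, -⟩ := exists_both S.nd₂ hw hw
  have P : Pair S w ((S.f₂ w z)⁻¹ • z) := ⟨halt w, halt _, by
    rw [map_smul, smul_eq_mul, inv_mul_cancel₀ hz]⟩
  obtain ⟨k, hk, hkm⟩ := exists_alt_move halt (S.skew₂ hε) S.nd₂ hm hw
  have h1 := kron_of_stable₂ O hε hR hq P (mul_mem (O.right hk) hh) fun x => by
    obtain ⟨y, hy⟩ := hl x
    exact ⟨y, by rw [act_mul, hy, act_kr, act_one, hkm]⟩
  have := mul_mem (inv_mem (kr_mem (1 : GL (Fin 3) F) k)) h1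
  rwa [inv_mul_cancel_left] at this

end Cfsg.Agent.Sp6Geom34.Tensor
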