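import Cfsg.Agent.MaxSub.UnitaryInSp
import Cfsg.Agent.Sp6Geom34.Word

/-!
The normaliser of a quadratic extension with a skew generator is maximal in a symplectic group of
dimension at least five, odd characteristic: a proof without a dimension gap (helper34).
-/

set_option autoImplicit false
set_option linter.unusedSectionVars false

namespace Cfsg.Agent.Sp6Geom34.Unitary

open Matrix QuadraticMap Cfsg.Agent.MaxSub Cfsg.Agent.UnitaryInSp Cfsg.Agent.UnitaryOrthogonal
  Cfsg.Agent.OrthStab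

variable {ι : Type} [Fintype ι] [DecidableEq ι] {F : Type*} [Field F]
variable {f : (ι → F) → (ι → F) → F} {J : Matrix ι ι F} {μ : F}
variable (hs : IsSkewGen f J μ)
include hs

theorem exists_form : ∃ Q : QuadraticForm F (ι → F), PolarND Q ∧ (∀ x, Q x = f x (J *ᵥ x)) ∧
    ∀ x y, polar Q x y = 2 * f x (J *ᵥ y) := by
  have hb := hs.symp.bilinear
  let L : LinearMap.BilinForm F (ι → F) := LinearMap.mk₂ F (fun x y => f x (J *ᵥ y))
    (fun x y z => hb.add_left x y _) (fun c x y => hb.smul_left c x _)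
    (fun x y z => by rw [mulVec_add, hb.add_right])
    (fun c x y => by rw [mulVec_smul, hb.smul_right, smul_eq_mul])
  have hp : ∀ x y, polar L.toQuadraticMap x y = 2 * f x (J *ᵥ y) := fun x y => by
    rw [LinearMap.BilinMap.polar_toQuadraticMap]
    show f x (J *ᵥ y) + f y (J *ᵥ x) = _
    rw [symm_J hs x y]; ring
  refine ⟨L.toQuadraticMap, fun u hu => ?_, fun x => rfl, hp⟩
  by_contra hu0
  obtain ⟨z, hz⟩ := (hs.symp.nondegenerate u hu0).2
  have h := hu (μ⁻¹ • (J *ᵥ z))
  rw [hp, mulVec_smul, J_J hs, smul_smul, inv_mul_cancel₀ (mu_ne hs), one_smul] at h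
  exact hz ((mul_eq_zero.mp h).resolve_left hs.two)

/-- A combination of `w` and `J w` stays isotropic. -/
theorem iso_comb {w : ι → F} (hw : f w (J *ᵥ w) = 0) (x y : F) :
    f (x • w + y • (J *ᵥ w)) (J *ᵥ (x • w + y • (J *ᵥ w))) = 0 := by
  have hb := hs.symp.bilinear
  have h1 : f (J *ᵥ w) (J *ᵥ w) = 0 := hs.symp.alternating _
  have h2 : f (J *ᵥ w) w = 0 := by rw [hs.symp.skew, hw, neg_zero]
  simp only [mulVec_add, mulVec_smul, J_J hs, hb.add_left, hb.add_right, hb.smul_left,
    hb.smul_right, hs.symp.alternating, hw, h1, h2]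
  ring

theorem J_indep {w : ι → F} (hw : w ≠ 0) {x y : F} (h : x • w + y • (J *ᵥ w) = 0) :
    x = 0 ∧ y = 0 := by
  by_contra hc
  refine hw (smul_eq_zero_K hs h ?_)
  by_cases hx : x = 0
  · exact Or.inr fun hy => hc ⟨hx, hy⟩
  · exact Or.inl hx

/-- Nonzero norms. -/
theorem norm_ne {x y : F} (h : x ≠ 0 ∨ y ≠ 0) : x * x - μ * (y * y) ≠ 0 := fun h3 => by
  by_cases hy : y = 0
  · rw [hy] at h3
    simp only [mul_zero, sub_zero, mul_self_eq_zero] at h3
    exact h.elim (fun h => h h3) (fun h => h hy)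
  · exact hs.nsq (x / y) (by field_simp; linear_combination h3)

theorem eq_of_two_mul {a b : F} (h : 2 * a = 2 * b) : a = b := mul_left_cancel₀ hs.two h

variable [Finite F] (hn : 5 ≤ Fintype.card ι)
include hn

theorem exists_iso_dual {x : ι → F} (hx : x ≠ 0) :
    ∃ w, f w (J *ᵥ w) = 0 ∧ f w (J *ᵥ x) = 1 := by
  obtain ⟨Q, hQ, hQx, hp⟩ := exists_form hs
  have h2 := hs.two
  obtain ⟨w, hw, -, hwx⟩ := exists_singular_value hQ (S := ⊥) (y := (2 : F)⁻¹ • x)
    (by simpa [h2] using hx) (by simp; omega)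
  refine ⟨w, by rw [← hQx, hw], ?_⟩
  rw [hp, mulVec_smul, hs.symp.bilinear.smul_right] at hwx
  field_simp at hwx
  exact hwx

/-- Every vector is a combination of two isotropic ones pairing non-trivially. -/
theorem exists_split {x : ι → F} (hx : x ≠ 0) :
    ∃ e y, f e (J *ᵥ e) = 0 ∧ f y (J *ᵥ y) = 0 ∧ f y e ≠ 0 ∧ ∃ t : F, x = y - t • e := by
  have hb := hs.symp.bilinear
  obtain ⟨w, hw, hwx⟩ := exists_iso_dual hs hn hx
  set a := f x w with ha
  have hw' := iso_comb hs hw 1 (1 - a)
  set e := (1 : F) • w + (1 - a) • (J *ᵥ w) with he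
  have hxJw : f x (J *ᵥ w) = 1 := by rw [symm_J hs w x]; exact hwx
  have hxe : f x e = 1 := by
    rw [he, hb.add_right, hb.smul_right, hb.smul_right, hxJw, ← ha]; ring
  have hA : f x (J *ᵥ e) = 1 + (1 - a) * μ * a := by
    rw [he, mulVec_add, mulVec_smul, mulVec_smul, J_J hs, hb.add_right, hb.smul_right,
      hb.smul_right, hb.smul_right, hxJw, ← ha]; ring
  by_cases hA0 : f x (J *ᵥ e) = 0
  · -- rotate once more
    have hw2 := iso_comb hs hw' 1 1
    set e' := (1 : F) • e + (1 : F) • (J *ᵥ e) with he'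
    have h1 : f x e' = 1 := by
      rw [he', hb.add_right, hb.smul_right, hb.smul_right, hxe, hA0]; ring
    have h2 : f x (J *ᵥ e') = μ := by
      rw [he', mulVec_add, mulVec_smul, mulVec_smul, J_J hs, hb.add_right, hb.smul_right,
        hb.smul_right, hb.smul_right, hA0, hxe]; ring
    set t := -(f x (J *ᵥ x)) / (2 * μ) with ht
    refine ⟨e', x + t • e', hw2, ?_, ?_, t, by simp⟩
    · have := hs.two
      have := mu_ne hs
      rw [mulVec_add, mulVec_smul, hb.add_left, hb.add_right, hb.add_right, hb.smul_left,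
        hb.smul_left, hb.smul_right, hb.smul_right, hw2, h2, symm_J hs x e', h2, ht]
      field_simp
      ring
    · rw [hb.add_left, hb.smul_left, hs.symp.alternating, h1]; simp
  · set t := -(f x (J *ᵥ x)) / (2 * f x (J *ᵥ e)) with ht
    refine ⟨e, x + t • e, hw', ?_, ?_, t, by simp⟩
    · have := hs.two
      rw [mulVec_add, mulVec_smul, hb.add_left, hb.add_right, hb.add_right, hb.smul_left,
        hb.smul_left, hb.smul_right, hb.smul_right, hw', symm_J hs x e, ht]
      field_simp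
      ring
    · rw [hb.add_left, hb.smul_left, hs.symp.alternating, hxe]; simp

/-- Isotropic vectors span. -/
theorem eq_zero_of_iso {W : Type*} [AddCommGroup W] [Module F W] (T : (ι → F) →ₗ[F] W)
    (hT : ∀ w, f w (J *ᵥ w) = 0 → T w = 0) (x : ι → F) : T x = 0 := by
  by_cases hx : x = 0
  · rw [hx, map_zero]
  obtain ⟨e, y, he, hy, -, t, rfl⟩ := exists_split hs hn hx
  rw [map_sub, map_smul, hT e he, hT y hy, smul_zero, sub_zero]

end Cfsg.Agent.Sp6Geom34.Unitary
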