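import Cfsg.Agent.Sp6Geom34.Unitary

/-!
An element of an overgroup moving an isotropic line over the quadratic field off the lines yields
a transvection (helper34).
-/

set_option autoImplicit false
set_option linter.unusedSectionVars false

namespace Cfsg.Agent.Sp6Geom34.Unitary

open Matrix Cfsg.Agent.MaxSub Cfsg.Agent.UnitaryInSp

variable {ι : Type} [Fintype ι] [DecidableEq ι] {F : Type*} [Field F]
variable {f : (ι → F) → (ι → F) → F} {J : Matrix ι ι F} {μ : F}

/-- Orthogonal to `v` and `J v`. -/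
def PerpL (f : (ι → F) → (ι → F) → F) (J : Matrix ι ι F) (v x : ι → F) : Prop :=
  f x v = 0 ∧ f x (J *ᵥ v) = 0

/-- In the line of `v`. -/
def InL (J : Matrix ι ι F) (v x : ι → F) : Prop := ∃ a b : F, x = a • v + b • (J *ᵥ v)

/-- Maps lowering `V ⊇ L^⊥ ⊇ L ⊇ 0` by one step. -/
def Nil1 (f : (ι → F) → (ι → F) → F) (J : Matrix ι ι F) (v : ι → F)
    (T : (ι → F) →ₗ[F] (ι → F)) : Prop :=
  (∀ x, PerpL f J v (T x)) ∧ (∀ x, PerpL f J v x → InL J v (T x)) ∧ ∀ x, InL J v x → T x = 0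

/-- Maps lowering the filtration by two steps. -/
def Nil2 (f : (ι → F) → (ι → F) → F) (J : Matrix ι ι F) (v : ι → F)
    (T : (ι → F) →ₗ[F] (ι → F)) : Prop :=
  (∀ x, InL J v (T x)) ∧ ∀ x, PerpL f J v x → T x = 0

variable (hs : IsSkewGen f J μ)
include hs

/-- `x ↦ f(x,p) q + f(x,q) p`. -/
def A (p q : ι → F) : (ι → F) →ₗ[F] (ι → F) :=
  (lmap hs.symp.bilinear p).smulRight q + (lmap hs.symp.bilinear q).smulRight p

theorem A_apply (p q x : ι → F) : A hs p q x = f x p • q + f x q • p := rfl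

theorem A_sub_left (p p' q : ι → F) : A hs (p - p') q = A hs p q - A hs p' q := by
  refine LinearMap.ext fun x => ?_
  simp only [A_apply, LinearMap.sub_apply, form_sub_right hs.symp.bilinear]
  module

theorem A_neg_right (p q : ι → F) : A hs p (-q) = -A hs p q := by
  refine LinearMap.ext fun x => ?_
  simp only [A_apply, LinearMap.neg_apply, form_neg_right hs.symp.bilinear]
  module

theorem A_add_right (p q q' : ι → F) : A hs p (q + q') = A hs p q + A hs p q' := by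
  refine LinearMap.ext fun x => ?_
  simp only [A_apply, LinearMap.add_apply, hs.symp.bilinear.add_right]
  module

/-- The Siegel element of `v` and `e` commuting with `J`. -/
noncomputable def sieg (f : (ι → F) → (ι → F) → F) (J : Matrix ι ι F) (v e : ι → F) : GL ι F :=
  el f (J *ᵥ v) e * el f v (-(J *ᵥ e)) * el f ((-(f e (J *ᵥ e)) / 2) • v) (J *ᵥ v)

theorem el_mem_isom (p q : ι → F) : el f p q ∈ isom f :=
  mul_mem (mul_mem (st_mem_isom hs.symp _ _) (st_mem_isom hs.symp _ _)) (st_mem_isom hs.symp _ _)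

theorem sieg_mem_isom (v e : ι → F) : sieg f J v e ∈ isom f :=
  mul_mem (mul_mem (el_mem_isom hs _ _) (el_mem_isom hs _ _)) (el_mem_isom hs _ _)

theorem sieg_comm {v e : ι → F} (hv : f v (J *ᵥ v) = 0) (he : PerpL f J v e) (x : ι → F) :
    (sieg f J v e : Matrix ι ι F) *ᵥ (J *ᵥ x) = J *ᵥ ((sieg f J v e : Matrix ι ι F) *ᵥ x) := by
  have hb := hs.symp.bilinear
  have ha := hs.symp.alternating
  have e1 : f v e = 0 := by rw [hs.symp.skew, he.1, neg_zero]
  have e2 : f (J *ᵥ v) e = 0 := by rw [hs.symp.skew, he.2, neg_zero]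
  have e3 : f (J *ᵥ e) v = 0 := by rw [hs.skew, he.2, neg_zero]
  have e4 : f v (J *ᵥ e) = 0 := by rw [hs.symp.skew, e3, neg_zero]
  have e5 : f (J *ᵥ v) (J *ᵥ e) = 0 := by rw [f_JJ hs, e1, mul_zero, neg_zero]
  have e6 : f (J *ᵥ e) (J *ᵥ v) = 0 := by rw [f_JJ hs, he.1, mul_zero, neg_zero]
  have e7 : f (J *ᵥ v) v = 0 := by rw [hs.symp.skew, hv, neg_zero]
  have e8 : f (J *ᵥ e) e = -f e (J *ᵥ e) := hs.symp.skew _ _
  have h2 := hs.two
  have key : ∀ y, (sieg f J v e : Matrix ι ι F) *ᵥ y = y + f y (J *ᵥ v) • e + f y e • (J *ᵥ v)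
      - f y v • (J *ᵥ e) - f y (J *ᵥ e) • v
      + (f e (J *ᵥ e) / 2) • (f y v • (J *ᵥ v) - f y (J *ᵥ v) • v) := by
    intro y
    rw [sieg, Units.val_mul, Units.val_mul, ← mulVec_mulVec, ← mulVec_mulVec,
      el_mulVec hs e2, el_mulVec hs (show f v (-(J *ᵥ e)) = 0 by rw [form_neg_right hb, e4, neg_zero]),
      el_mulVec hs (show f ((-f e (J *ᵥ e) / 2) • v) (J *ᵥ v) = 0 by rw [hb.smul_left, hv, mul_zero])]
    simp only [hb.add_left, hb.smul_left, hb.smul_right, hb.add_right, form_neg_right hb,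
      ← neg_one_smul F (J *ᵥ e), ha, hv, he.1, he.2, e1, e2, e3, e4, e5, e6, e7, e8]
    match_scalars <;> field_simp <;> ring
  rw [key, key, mulVec_add, mulVec_sub, mulVec_sub, mulVec_add, mulVec_add, mulVec_smul,
    mulVec_smul, mulVec_smul, mulVec_smul, mulVec_smul, mulVec_sub, mulVec_smul, mulVec_smul]
  simp only [J_J hs, f_JJ hs, hs.skew x]
  module

/-- `n` is `1 + T` modulo `Nil2`. -/
def Cong (f : (ι → F) → (ι → F) → F) (J : Matrix ι ι F) (v : ι → F) (n : GL ι F)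
    (T : (ι → F) →ₗ[F] (ι → F)) : Prop :=
  Nil2 f J v ((n : Matrix ι ι F).mulVecLin - LinearMap.id - T)

theorem inL_perp {v x : ι → F} (hv : f v (J *ᵥ v) = 0) (hx : InL J v x) : PerpL f J v x := by
  obtain ⟨a, b, rfl⟩ := hx
  have hb := hs.symp.bilinear
  constructor <;>
    simp [hb.add_left, hb.smul_left, hs.symp.alternating, hv, hs.symp.skew (J *ᵥ v) v]

theorem inL_add {v x y : ι → F} (hx : InL J v x) (hy : InL J v y) : InL J v (x + y) := by
  obtain ⟨a, b, rfl⟩ := hx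
  obtain ⟨c, d, rfl⟩ := hy
  exact ⟨a + c, b + d, by module⟩

theorem inL_smul {v x : ι → F} (r : F) (hx : InL J v x) : InL J v (r • x) := by
  obtain ⟨a, b, rfl⟩ := hx
  exact ⟨r * a, r * b, by module⟩

theorem perp_add {v x y : ι → F} (hx : PerpL f J v x) (hy : PerpL f J v y) :
    PerpL f J v (x + y) :=
  ⟨by rw [hs.symp.bilinear.add_left, hx.1, hy.1, add_zero],
    by rw [hs.symp.bilinear.add_left, hx.2, hy.2, add_zero]⟩

theorem perp_smul {v x : ι → F} (r : F) (hx : PerpL f J v x) : PerpL f J v (r • x) :=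
  ⟨by rw [hs.symp.bilinear.smul_left, hx.1, mul_zero],
    by rw [hs.symp.bilinear.smul_left, hx.2, mul_zero]⟩

theorem inL_form {v p x : ι → F} (hp : InL J v p) (hx : PerpL f J v x) : f x p = 0 := by
  obtain ⟨a, b, rfl⟩ := hp
  simp [hs.symp.bilinear.add_right, hs.symp.bilinear.smul_right, hx.1, hx.2]

theorem A_nil1 {v p q : ι → F} (hv : f v (J *ᵥ v) = 0) (hp : InL J v p) (hq : PerpL f J v q) :
    Nil1 f J v (A hs p q) := by
  refine ⟨fun x => ?_, fun x hx => ?_, fun x hx => ?_⟩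
  · exact perp_add hs (perp_smul hs _ hq) (perp_smul hs _ (inL_perp hs hv hp))
  · rw [A_apply, inL_form hs hp hx, zero_smul, zero_add]
    exact inL_smul hs _ hp
  · have h1 := inL_form hs hp (inL_perp hs hv hx)
    have h2 : f x q = 0 := by rw [hs.symp.skew, inL_form hs hx hq, neg_zero]
    rw [A_apply, h1, h2]; simp

theorem A_nil2 {v p q : ι → F} (hp : InL J v p) (hq : InL J v q) :
    Nil2 f J v (A hs p q) := by
  refine ⟨fun x => ?_, fun x hx => ?_⟩
  · exact inL_add hs (inL_smul hs _ hq) (inL_smul hs _ hp)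
  · rw [A_apply, inL_form hs hp hx, inL_form hs hq hx]; simp

theorem nil2_add {v : ι → F} {S T : (ι → F) →ₗ[F] (ι → F)} (hS : Nil2 f J v S)
    (hT : Nil2 f J v T) : Nil2 f J v (S + T) :=
  ⟨fun x => inL_add hs (hS.1 x) (hT.1 x), fun x hx => by
    rw [LinearMap.add_apply, hS.2 x hx, hT.2 x hx, add_zero]⟩

theorem nil1_add {v : ι → F} {S T : (ι → F) →ₗ[F] (ι → F)} (hS : Nil1 f J v S)
    (hT : Nil1 f J v T) : Nil1 f J v (S + T) :=
  ⟨fun x => perp_add hs (hS.1 x) (hT.1 x), fun x hx => inL_add hs (hS.2.1 x hx) (hT.2.1 x hx),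
    fun x hx => by rw [LinearMap.add_apply, hS.2.2 x hx, hT.2.2 x hx, add_zero]⟩

theorem nil2_nil1 {v : ι → F} (hv : f v (J *ᵥ v) = 0) {S : (ι → F) →ₗ[F] (ι → F)}
    (hS : Nil2 f J v S) : Nil1 f J v S :=
  ⟨fun x => inL_perp hs hv (hS.1 x), fun x _ => hS.1 x,
    fun x hx => hS.2 x (inL_perp hs hv hx)⟩

theorem nil1_comp {v : ι → F} {S T : (ι → F) →ₗ[F] (ι → F)} (hS : Nil1 f J v S)
    (hT : Nil1 f J v T) : Nil2 f J v (S ∘ₗ T) :=
  ⟨fun x => hS.2.1 _ (hT.1 x), fun x hx => hS.2.2 _ (hT.2.1 x hx)⟩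

theorem nil2_zero (v : ι → F) : Nil2 f J v 0 := ⟨fun _ => ⟨0, 0, by simp⟩, fun _ _ => rfl⟩

theorem cong_mul {v : ι → F} (hv : f v (J *ᵥ v) = 0) {n m : GL ι F}
    {S T : (ι → F) →ₗ[F] (ι → F)} (hS : Nil1 f J v S) (hT : Nil1 f J v T)
    (hn : Cong f J v n S) (hm : Cong f J v m T) : Cong f J v (n * m) (S + T) := by
  unfold Cong at *
  set R := (n : Matrix ι ι F).mulVecLin - LinearMap.id - S with hR
  set R' := (m : Matrix ι ι F).mulVecLin - LinearMap.id - T with hR'
  have h1 := nil1_add hs hS (nil2_nil1 hs hv hn)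
  have h2 := nil1_add hs hT (nil2_nil1 hs hv hm)
  have e : ((n * m : GL ι F) : Matrix ι ι F).mulVecLin - LinearMap.id - (S + T) =
      R + R' + (S + R) ∘ₗ (T + R') := by
    refine LinearMap.ext fun x => ?_
    simp only [hR, hR', LinearMap.sub_apply, LinearMap.add_apply, LinearMap.comp_apply,
      LinearMap.id_apply, mulVecLin_apply, Units.val_mul, ← mulVec_mulVec, map_sub, map_add,
      mulVec_add, mulVec_sub, add_sub_cancel]
    abel
  rw [e]
  exact nil2_add hs (nil2_add hs hn hm) (nil1_comp hs h1 h2)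

theorem cong_congr {v : ι → F} {n : GL ι F} {S T : (ι → F) →ₗ[F] (ι → F)}
    (hn : Cong f J v n S) (h : Nil2 f J v (S - T)) : Cong f J v n T := by
  have e : (n : Matrix ι ι F).mulVecLin - LinearMap.id - T =
      ((n : Matrix ι ι F).mulVecLin - LinearMap.id - S) + (S - T) := by abel
  rw [Cong, e]
  exact nil2_add hs hn h

theorem cong_el {v p q : ι → F} (hpq : f p q = 0) : Cong f J v (el f p q) (A hs p q) := by
  have e : (el f p q : Matrix ι ι F).mulVecLin - LinearMap.id - A hs p q = 0 := by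
    refine LinearMap.ext fun x => ?_
    simp only [LinearMap.sub_apply, LinearMap.id_apply, mulVecLin_apply, el_mulVec hs hpq,
      A_apply, LinearMap.zero_apply]
    abel
  rw [Cong, e]; exact nil2_zero hs v

theorem cong_sieg {v w e : ι → F} (hv : f v (J *ᵥ v) = 0) (hw : InL J v w)
    (hwJ : InL J v (J *ᵥ w)) (hwi : f w (J *ᵥ w) = 0) (he : PerpL f J v e)
    (heJ : PerpL f J v (J *ᵥ e)) :
    Cong f J v (sieg f J w e) (A hs (J *ᵥ w) e - A hs w (J *ᵥ e)) := by
  have hb := hs.symp.bilinear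
  have hneg : PerpL f J v (-(J *ᵥ e)) := by
    rw [← neg_one_smul F (J *ᵥ e)]; exact perp_smul hs _ heJ
  set r := -(f e (J *ᵥ e)) / 2
  have n1 := A_nil1 hs hv hwJ he
  have n2 := A_nil1 hs hv hw hneg
  have z3 : Nil2 f J v (A hs (r • w) (J *ᵥ w)) := A_nil2 hs (inL_smul hs _ hw) hwJ
  have c12 := cong_mul hs hv n1 n2
    (cong_el hs (v := v) (by rw [hs.symp.skew, inL_form hs hwJ he, neg_zero] : f (J *ᵥ w) e = 0))
    (cong_el hs (v := v)
      (by rw [form_neg_right hb, hs.symp.skew, inL_form hs hw heJ, neg_zero, neg_zero] :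
        f w (-(J *ᵥ e)) = 0))
  have c := cong_mul hs hv (nil1_add hs n1 n2) (nil2_nil1 hs hv z3) c12
    (cong_el hs (v := v) (by rw [hb.smul_left, hwi, mul_zero] : f (r • w) (J *ᵥ w) = 0))
  refine cong_congr hs c ?_
  rw [A_neg_right, ← sub_eq_add_neg, add_sub_cancel_left]
  exact z3

theorem el_conj_A {h : GL ι F} (hh : h ∈ isom f) (p q x : ι → F) :
    (h : Matrix ι ι F) *ᵥ A hs p q (((h⁻¹ : GL ι F) : Matrix ι ι F) *ᵥ x) =
      A hs ((h : Matrix ι ι F) *ᵥ p) ((h : Matrix ι ι F) *ᵥ q) x := by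
  conv_rhs => rw [← mulVec_inv_mulVec h x]
  simp only [A_apply, mem_isom.mp hh, mulVec_add, mulVec_smul]

theorem cong_conj {v : ι → F} {h n : GL ι F} (hh : h ∈ isom f)
    (hL : ∀ x, InL J v x → InL J v ((h : Matrix ι ι F) *ᵥ x))
    (hP : ∀ x, PerpL f J v x → PerpL f J v (((h⁻¹ : GL ι F) : Matrix ι ι F) *ᵥ x))
    {p q p' q' : ι → F}
    (hn : Cong f J v n (A hs p q - A hs p' q')) :
    Cong f J v (h * n * h⁻¹) (A hs ((h : Matrix ι ι F) *ᵥ p) ((h : Matrix ι ι F) *ᵥ q) -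
      A hs ((h : Matrix ι ι F) *ᵥ p') ((h : Matrix ι ι F) *ᵥ q')) := by
  obtain ⟨h1, h2⟩ := hn
  refine ⟨fun x => ?_, fun x hx => ?_⟩
  · have := hL _ (h1 (((h⁻¹ : GL ι F) : Matrix ι ι F) *ᵥ x))
    simpa only [LinearMap.sub_apply, LinearMap.id_apply, mulVecLin_apply, Units.val_mul,
      ← mulVec_mulVec, mulVec_sub, el_conj_A hs hh, mulVec_inv_mulVec] using this
  · have := congrArg ((h : Matrix ι ι F) *ᵥ ·) (h2 _ (hP x hx))
    simpa only [LinearMap.sub_apply, LinearMap.id_apply, mulVecLin_apply, Units.val_mul,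
      ← mulVec_mulVec, mulVec_sub, el_conj_A hs hh, mulVec_inv_mulVec, mulVec_zero] using this

/-- Commutators of two realised maps with a common centre give transvections. -/
theorem st_mem_of_cong {M : Subgroup (GL ι F)} {v p e e' : ι → F} (hv : f v (J *ᵥ v) = 0)
    (hp : InL J v p) (he : PerpL f J v e) (he' : PerpL f J v e') {n n' : GL ι F}
    (hn : n ∈ M) (hn' : n' ∈ M) (hnc : Cong f J v n (A hs p e))
    (hnc' : Cong f J v n' (A hs p e')) : st f p (2 * f e' e) ∈ M := by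
  have hb := hs.symp.bilinear
  unfold Cong at hnc hnc'
  set R := (n : Matrix ι ι F).mulVecLin - LinearMap.id - A hs p e with hR
  set R' := (n' : Matrix ι ι F).mulVecLin - LinearMap.id - A hs p e' with hR'
  have hA := A_nil1 hs hv hp he
  have hA' := A_nil1 hs hv hp he'
  have hx : ∀ x, (n : Matrix ι ι F) *ᵥ x = x + A hs p e x + R x := fun x => by
    simp only [hR, LinearMap.sub_apply, LinearMap.id_apply, mulVecLin_apply]; abel
  have hx' : ∀ x, (n' : Matrix ι ι F) *ᵥ x = x + A hs p e' x + R' x := fun x => by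
    simp only [hR', LinearMap.sub_apply, LinearMap.id_apply, mulVecLin_apply]; abel
  have pe : f p e = 0 := by rw [hs.symp.skew, inL_form hs hp he, neg_zero]
  have pe' : f p e' = 0 := by rw [hs.symp.skew, inL_form hs hp he', neg_zero]
  have hpp := hs.symp.alternating p
  have key : n * n' = st f p (2 * f e' e) * (n' * n) := by
    refine gl_ext fun x => ?_
    simp only [Units.val_mul, ← mulVec_mulVec]
    -- the two orders of composition
    have k : ∀ x, A hs p e (R' x) = 0 ∧ A hs p e' (R x) = 0 ∧ R (A hs p e' x) = 0 ∧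
        R' (A hs p e x) = 0 ∧ R (R' x) = 0 ∧ R' (R x) = 0 ∧
        f (R x) p = 0 ∧ f (R' x) p = 0 := fun x =>
      ⟨hA.2.2 _ (hnc'.1 x), hA'.2.2 _ (hnc.1 x), hnc.2 _ (hA'.1 x), hnc'.2 _ (hA.1 x),
        hnc.2 _ (inL_perp hs hv (hnc'.1 x)), hnc'.2 _ (inL_perp hs hv (hnc.1 x)),
        inL_form hs hp (inL_perp hs hv (hnc.1 x)), inL_form hs hp (inL_perp hs hv (hnc'.1 x))⟩
    obtain ⟨k1, k2, k3, k4, k5, k6, k7, k8⟩ := k x
    rw [hx (_), hx' x, st_mulVec hs.symp, hx' (_), hx x]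
    simp only [map_add, k1, k2, k3, k4, k5, k6, add_zero, hb.add_left, k7, k8]
    simp only [A_apply, hb.add_left, hb.smul_left, hpp, pe, pe', hs.symp.skew e p,
      hs.symp.skew e' p, hs.symp.skew e e', hs.symp.alternating e, hs.symp.alternating e']
    module
  have : st f p (2 * f e' e) = n * n' * (n' * n)⁻¹ := by rw [key]; group
  rw [this]
  exact mul_mem (mul_mem hn hn') (inv_mem (mul_mem hn' hn))

end Cfsg.Agent.Sp6Geom34.Unitary
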