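import Cfsg.Agent.Sp6Geom34.UnitaryStep

/-!
Overgroups of the unitary group in the symplectic group (helper34).
-/

set_option autoImplicit false
set_option linter.unusedSectionVars false

namespace Cfsg.Agent.Sp6Geom34.Unitary

open Matrix Polynomial Cfsg.Agent.MaxSub Cfsg.Agent.UnitaryInSp

variable {ι : Type} [Fintype ι] [DecidableEq ι] {F : Type*} [Field F]
variable {f : (ι → F) → (ι → F) → F} {J : Matrix ι ι F} {μ : F}
variable (hs : IsSkewGen f J μ)
include hs

theorem card_odd [Fintype F] : Fintype.card F % 2 = 1 := by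
  refine FiniteField.odd_card_of_char_ne_two fun h => hs.two ?_
  haveI := ringChar.of_eq h
  exact CharTwo.two_eq_zero

theorem mu_ne_one : μ ≠ 1 := fun h => hs.nsq 1 (by rw [one_mul, h])

variable [Finite F] (hn : 5 ≤ Fintype.card ι)
include hn

variable {M : Subgroup (GL ι F)}
variable (hM : ∀ g ∈ isom f,
  (∀ x, (g : Matrix ι ι F) *ᵥ (J *ᵥ x) = J *ᵥ ((g : Matrix ι ι F) *ᵥ x)) → g ∈ M)
include hM

/-- Without a centre, isotropic vectors see `g` semilinear. -/
theorem iso_semilinear (hno : ¬ ∃ p, p ≠ 0 ∧ f p (J *ᵥ p) = 0 ∧ p ∈ centres f M)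
    {g : GL ι F} (hgM : g ∈ M) (hgi : g ∈ isom f) {w : ι → F} (hw : f w (J *ᵥ w) = 0) :
    (g : Matrix ι ι F) *ᵥ (J *ᵥ w) = J *ᵥ ((g : Matrix ι ι F) *ᵥ w) ∨
      (g : Matrix ι ι F) *ᵥ (J *ᵥ w) = -(J *ᵥ ((g : Matrix ι ι F) *ᵥ w)) := by
  classical
  have hb := hs.symp.bilinear
  have hμ := mu_ne hs
  by_cases hw0 : w = 0
  · left; simp [hw0]
  by_contra hcon
  apply hno
  set u := (g : Matrix ι ι F) *ᵥ w with hu
  set u' := (g : Matrix ι ι F) *ᵥ (J *ᵥ w) with hu'
  have huu : f u u' = 0 := by rw [hu, hu', mem_isom.mp hgi, hw]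
  have hu0 : u ≠ 0 := mulVec_ne_zero g hw0
  have hind : ∀ x y : F, x • u + y • u' = 0 → x = 0 ∧ y = 0 := fun x y h => by
    refine J_indep hs hw0 (mulVec_injective g ?_)
    show (g : Matrix ι ι F) *ᵥ _ = (g : Matrix ι ι F) *ᵥ 0
    rw [mulVec_add, mulVec_smul, mulVec_smul, mulVec_zero]
    exact h
  let W : Fin 4 → (ι → F) := ![u, u', J *ᵥ u, J *ᵥ u']
  by_cases hli : LinearIndependent F W
  · let Ψ : (ι → F) →ₗ[F] (Fin 4 → F) := LinearMap.pi fun i => lmap hb (W i)
    have hΨ : LinearMap.range Ψ = ⊤ := by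
      by_contra hne
      obtain ⟨φ, hφ0, hφ⟩ := Submodule.exists_le_ker_of_lt_top _ (lt_top_iff_ne_top.mpr hne)
      have hz : ∀ x, f x (∑ i, φ (Pi.single i 1) • W i) = 0 := fun x => by
        have h := LinearMap.mem_ker.mp (hφ (LinearMap.mem_range_self Ψ x))
        rw [pi_eq_sum_univ' (Ψ x), map_sum] at h
        rw [← h]
        simp only [map_smul, smul_eq_mul]
        have : f x (∑ i, φ (Pi.single i 1) • W i) = rmap hb x (∑ i, φ (Pi.single i 1) • W i) := rfl
        rw [this, map_sum]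
        refine Finset.sum_congr rfl fun i _ => ?_
        show f x (φ (Pi.single i 1) • W i) = f x (W i) * _
        rw [hb.smul_right, mul_comm]
      have hsum : ∑ i, φ (Pi.single i 1) • W i = 0 := by
        by_contra h0
        obtain ⟨x, hx⟩ := (hs.symp.nondegenerate _ h0).1
        exact hx (hz x)
      refine hφ0 (LinearMap.pi_ext' fun i => LinearMap.ext_ring ?_)
      simpa using Fintype.linearIndependent_iff.mp hli _ hsum i
    have hget : ∀ r : Fin 4 → F, ∃ x, f x u = r 0 ∧ f x u' = r 1 ∧ f x (J *ᵥ u) = r 2 ∧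
        f x (J *ᵥ u') = r 3 := fun r => by
      obtain ⟨x, hx⟩ : r ∈ LinearMap.range Ψ := hΨ ▸ Submodule.mem_top
      exact ⟨x, congrFun hx 0, congrFun hx 1, congrFun hx 2, congrFun hx 3⟩
    have finish : ∀ (v : ι → F) (s : F), s ≠ 0 → f v (J *ᵥ v) = 0 → f v u = 1 → f v u' = 0 →
        f v (J *ᵥ u) = -1 → f v (J *ᵥ u') = -s →
        ∃ p, p ≠ 0 ∧ f p (J *ᵥ p) = 0 ∧ p ∈ centres f M := by
      intro v s hs0 hv h0 h1 h2 h3
      refine exists_centre_of hs hn hM hgM hgi hv (fun h => one_ne_zero (α := F) ?_) hw (a := 1) (a' := 0)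
        (b := 1) (b' := s) h0 h1 ?_ ?_ (by simpa using hs0) (Or.inl (by simpa using hμ))
      · rw [← h0, h, form_zero_left hb]
      · rw [hs.skew, ← hu, h2, neg_neg]
      · rw [hs.skew, ← hu', h3, neg_neg]
    by_cases hη : ∃ η, (∀ i, f η (W i) = 0) ∧ f η (J *ᵥ η) ≠ 0
    · obtain ⟨η, hηW, hη⟩ := hη
      obtain ⟨x₀, x0, x1, x2, x3⟩ := hget ![1, 0, -1, -1]
      haveI := Fintype.ofFinite F
      set Qη := f η (J *ᵥ η) with hQη
      obtain ⟨x, y, hxy⟩ := FiniteField.exists_root_sum_quadratic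
        (f := C Qη * X ^ 2 + C (2 * f x₀ (J *ᵥ η)) * X + C (f x₀ (J *ᵥ x₀)))
        (g := C (-(μ * Qη)) * X ^ 2 + C (2 * (μ * f x₀ η)) * X + C 0)
        (degree_quadratic hη) (degree_quadratic (neg_ne_zero.mpr (mul_ne_zero hμ hη))) (card_odd hs)
      simp only [eval_add, eval_mul, eval_C, eval_pow, eval_X] at hxy
      have hJη : ∀ i, f (J *ᵥ η) (W i) = 0 := by
        have e0 : f η u = 0 := hηW 0
        have e1 : f η u' = 0 := hηW 1
        have e2 : f η (J *ᵥ u) = 0 := hηW 2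
        have e3 : f η (J *ᵥ u') = 0 := hηW 3
        intro i
        fin_cases i <;> simp [W, hs.skew, J_J hs, hb.smul_right, e0, e1, e2, e3]
      refine finish (x₀ + x • η + y • (J *ᵥ η)) 1 one_ne_zero ?_ ?_ ?_ ?_ ?_
      · have h1 : f (J *ᵥ η) η = -Qη := hs.symp.skew _ _
        simp only [mulVec_add, mulVec_smul, J_J hs, hb.add_left, hb.add_right, hb.smul_left,
          hb.smul_right, hs.symp.alternating, symm_J hs x₀ η, h1, ← hQη,
          show f (J *ᵥ η) (J *ᵥ x₀) = μ * f x₀ η by rw [f_JJ hs, hs.symp.skew η]; ring]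
        linear_combination hxy
      all_goals simp only [hb.add_left, hb.smul_left]
      · rw [x0, show f η u = 0 from hηW 0, show f (J *ᵥ η) u = 0 from hJη 0]; simp
      · rw [x1, show f η u' = 0 from hηW 1, show f (J *ᵥ η) u' = 0 from hJη 1]; simp
      · rw [x2, show f η (J *ᵥ u) = 0 from hηW 2, show f (J *ᵥ η) (J *ᵥ u) = 0 from hJη 2]; simp
      · rw [x3, show f η (J *ᵥ u') = 0 from hηW 3, show f (J *ᵥ η) (J *ᵥ u') = 0 from hJη 3]; simp
    · push Not at hη
      have hker : ∀ η, η ∈ LinearMap.ker Ψ → ∀ i, f η (W i) = 0 := fun η h i =>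
        congrFun (LinearMap.mem_ker.mp h) i
      have hJ : ∀ η ∈ LinearMap.ker Ψ, J *ᵥ η ∈ LinearMap.ker Ψ := by
        intro η h
        have e0 : f η u = 0 := hker η h 0
        have e1 : f η u' = 0 := hker η h 1
        have e2 : f η (J *ᵥ u) = 0 := hker η h 2
        have e3 : f η (J *ᵥ u') = 0 := hker η h 3
        rw [LinearMap.mem_ker]
        funext i
        show f (J *ᵥ η) (W i) = 0
        fin_cases i <;> simp [W, hs.skew, J_J hs, hb.smul_right, e0, e1, e2, e3]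
      have hperp : ∀ η ∈ LinearMap.ker Ψ, ∀ η' ∈ LinearMap.ker Ψ, f η (J *ᵥ η') = 0 := by
        intro η h η' h'
        have e := hη (η + η') (hker _ (add_mem h h'))
        rw [mulVec_add, hb.add_left, hb.add_right, hb.add_right, hη η (hker _ h),
          hη η' (hker _ h'), symm_J hs η η'] at e
        refine (mul_eq_zero.mp (?_ : (2 : F) * _ = 0)).resolve_left hs.two
        linear_combination e
      by_contra hgoal
      have hS : ∀ (v : ι → F) (s : F), s ≠ 0 → f v u = 1 → f v u' = 0 → f v (J *ᵥ u) = -1 →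
          f v (J *ᵥ u') = -s → ∀ η ∈ LinearMap.ker Ψ, f v (J *ᵥ η) = 0 := by
        intro v s hs0 h0 h1 h2 h3 η h
        by_contra hne
        set t := -(f v (J *ᵥ v)) / (2 * f v (J *ᵥ η))
        refine hgoal (finish (v + t • η) s hs0 ?_ ?_ ?_ ?_ ?_)
        · simp only [mulVec_add, mulVec_smul, hb.add_left, hb.add_right, hb.smul_left,
            hb.smul_right, hperp η h η h, symm_J hs v η, t]
          have := hs.two
          field_simp
          ring
        all_goals rw [hb.add_left, hb.smul_left]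
        · rw [h0, show f η u = 0 from hker η h 0]; simp
        · rw [h1, show f η u' = 0 from hker η h 1]; simp
        · rw [h2, show f η (J *ᵥ u) = 0 from hker η h 2]; simp
        · rw [h3, show f η (J *ᵥ u') = 0 from hker η h 3]; simp
      obtain ⟨v₁, a0, a1, a2, a3⟩ := hget ![1, 0, -1, -1]
      obtain ⟨v₂, c0, c1, c2, c3⟩ := hget ![1, 0, -1, 1]
      simp at a0 a1 a2 a3 c0 c1 c2 c3
      have hv₁ := hS v₁ 1 one_ne_zero a0 a1 a2 a3
      have hv₂ := hS v₂ (-1) (neg_ne_zero.mpr one_ne_zero) c0 c1 c2 (by rw [neg_neg, c3])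
      have hJS : ∀ v, (∀ η ∈ LinearMap.ker Ψ, f v (J *ᵥ η) = 0) →
          ∀ η ∈ LinearMap.ker Ψ, f (J *ᵥ v) (J *ᵥ η) = 0 := by
        intro v hv η h
        have := hv _ (hJ η h)
        rw [J_J hs, hb.smul_right] at this
        rw [f_JJ hs, this, neg_zero]
      obtain ⟨η, h, hη0⟩ : ∃ η ∈ LinearMap.ker Ψ, η ≠ 0 := by
        refine Submodule.exists_mem_ne_zero_of_ne_bot fun h => ?_
        have := LinearMap.finrank_range_add_finrank_ker Ψ
        rw [h, finrank_bot, Module.finrank_fintype_fun_eq_card] at this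
        have h4 := (LinearMap.range Ψ).finrank_le
        rw [Module.finrank_fintype_fun_eq_card, Fintype.card_fin] at h4
        omega
      obtain ⟨x, hx⟩ := (hs.symp.nondegenerate _ (fun h0 : J *ᵥ η = 0 => hη0
        (smul_eq_zero_K hs (a := 0) (b := 1) (by simp [h0]) (Or.inr one_ne_zero)))).1
      apply hx
      have h2 := hs.two
      have hμ1 : (1 : F) - μ ≠ 0 := sub_ne_zero.mpr (mu_ne_one hs).symm
      set γ := (f x u + f x (J *ᵥ u)) / (2 * (1 - μ)) with hγ
      set α := f x u / 2 - γ with hα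
      set ε := f x (J *ᵥ u') / 2 with hε
      set ζ := -(f x u') / 2 with hζ
      set s₁ := v₁ + v₂ with hs₁
      set d₁ := v₂ - v₁ with hd₁
      set z := α • s₁ + γ • (J *ᵥ s₁) + ε • d₁ + ζ • (J *ᵥ d₁) with hz
      have hmem : x - z ∈ LinearMap.ker Ψ := by
        rw [LinearMap.mem_ker]
        funext i
        show f (x - z) (W i) = 0
        fin_cases i <;>
        · simp [W, hz, hs₁, hd₁, form_sub_left hb, hb.add_left, hb.smul_left, mulVec_add,
            mulVec_sub, hs.skew, J_J hs, hb.smul_right, a0, a1, a2, a3, c0, c1, c2, c3]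
          simp only [hα, hγ, hε, hζ]
          field_simp
          ring
      have e1 : f (x - z) (J *ᵥ η) = 0 := hperp _ hmem _ h
      have e2 : f z (J *ᵥ η) = 0 := by
        simp only [hz, hs₁, hd₁, mulVec_add, mulVec_sub, hb.add_left, hb.smul_left,
          form_sub_left hb, hv₁ η h, hv₂ η h, hJS v₁ hv₁ η h, hJS v₂ hv₂ η h]
        ring
      rw [form_sub_left hb, e2, sub_zero] at e1
      exact e1
  · obtain ⟨c, hc, i, hi⟩ := Fintype.not_linearIndependent_iff.mp hli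
    simp only [Fin.sum_univ_four, W] at hc
    simp at hc
    set y := c 2 • u + c 3 • u' with hy
    have hJy : J *ᵥ y = (-(c 0)) • u + (-(c 1)) • u' := by
      rw [hy, mulVec_add, mulVec_smul, mulVec_smul, ← sub_eq_zero, ← hc]; module
    have hy0 : y ≠ 0 := fun h => by
      obtain ⟨e2, e3⟩ := hind _ _ (hy.symm.trans h)
      obtain ⟨e0, e1⟩ := hind (c 0) (c 1) (by rw [← hc, e2, e3]; simp)
      fin_cases i <;> exact hi (by assumption)
    set p := -(c 0) with hp
    set q := -(c 1) with hq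
    set D := c 2 * q - c 3 * p with hD
    have hD0 : D ≠ 0 := by
      intro h0
      have e1 : q • y + (-(c 3)) • (J *ᵥ y) = 0 := by
        rw [hJy, hy, show q • (c 2 • u + c 3 • u') + -(c 3) • (p • u + q • u') = D • u by
          rw [hD]; module, h0, zero_smul]
      have e2 : p • y + (-(c 2)) • (J *ᵥ y) = 0 := by
        rw [hJy, hy, show p • (c 2 • u + c 3 • u') + -(c 2) • (p • u + q • u') = (-D) • u' by
          rw [hD]; module, h0, neg_zero, zero_smul]
      obtain ⟨-, f3⟩ := J_indep hs hy0 e1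
      obtain ⟨-, f2⟩ := J_indep hs hy0 e2
      rw [neg_eq_zero] at f2 f3
      exact hy0 (by rw [hy, f2, f3]; simp)
    have hDu : D • (J *ᵥ u) = (q * p - c 3 * μ * c 2) • u + (q * q - μ * (c 3 * c 3)) • u' := by
      have e : D • u = q • y + (-(c 3)) • (J *ᵥ y) := by rw [hJy, hy, hD]; module
      have := congrArg (J *ᵥ ·) e
      simp only [mulVec_add, mulVec_smul, J_J hs] at this
      rw [this, hJy, hy]
      module
    set N := q * q - μ * (c 3 * c 3) with hN
    have hN0 : N ≠ 0 := norm_ne hs (by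
      by_contra h
      push Not at h
      exact hD0 (by rw [hD, h.1, h.2]; ring))
    set a₀ := -(q * p - c 3 * μ * c 2) / N with ha₀
    set b₀ := D / N with hb₀'
    have hu'e : u' = a₀ • u + b₀ • (J *ᵥ u) := by
      have e : N • u' = N • (a₀ • u + b₀ • (J *ᵥ u)) := by
        rw [smul_add, smul_smul, smul_smul, ha₀, hb₀', mul_div_cancel₀ _ hN0,
          mul_div_cancel₀ _ hN0, hDu]
        module
      exact smul_right_injective _ hN0 e
    have hb₀ : b₀ ≠ 0 := div_ne_zero hD0 hN0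
    have hui : f u (J *ᵥ u) = 0 := by
      rw [hu'e, hb.add_right, hb.smul_right, hb.smul_right, hs.symp.alternating, mul_zero,
        zero_add] at huu
      exact (mul_eq_zero.mp huu).resolve_left hb₀
    obtain ⟨e, he, he1, he2⟩ := exists_partner hs hn hu0
    have h00 : f (-e) u = 1 := by
      rw [← neg_one_smul F e, hb.smul_left, hs.symp.skew e, he1]; ring
    have h01 : f (-e) (J *ᵥ u) = 0 := by
      rw [← neg_one_smul F e, hb.smul_left, symm_J hs u e, he2, mul_zero]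
    refine exists_centre_of hs hn hM hgM hgi (v := -e) ?_ ?_ hw (a := 1) (a' := a₀) (b := 0)
      (b' := -(μ * b₀)) h00 ?_ ?_ ?_ (by simpa using ⟨hμ, hb₀⟩) ?_
    · rw [mulVec_neg, ← neg_one_smul F e, ← neg_one_smul F (J *ᵥ e), hb.smul_left, hb.smul_right,
        he]; simp
    · intro h; rw [h, form_zero_left hb] at h00; exact zero_ne_one h00
    · rw [← hu', hu'e, hb.add_right, hb.smul_right, hb.smul_right, h00, h01]; ring
    · rw [← hu, hs.skew, h01, neg_zero]
    · rw [← hu', hu'e, hb.add_right, hb.smul_right, hb.smul_right, f_JJ hs, h00, hs.skew, h01]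
      ring
    · by_cases ha : a₀ = 0
      · refine Or.inr fun hcc => ?_
        rw [ha] at hcc
        have h3 : b₀ * b₀ * (μ * μ) = 1 * 1 * (μ * μ) := by linear_combination hcc
        rcases mul_self_eq_mul_self_iff.mp (mul_right_cancel₀ (mul_ne_zero hμ hμ) h3) with h | h
        · exact hcon (Or.inl (by rw [hu'e, ha, h]; simp))
        · exact hcon (Or.inr (by rw [hu'e, ha, h]; simp))
      · exact Or.inl (by simpa using mul_ne_zero ha (mul_ne_zero hμ hb₀))

theorem semilinear_of_no_centre (hno : ¬ ∃ p, p ≠ 0 ∧ f p (J *ᵥ p) = 0 ∧ p ∈ centres f M)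
    {g : GL ι F} (hgM : g ∈ M) (hgi : g ∈ isom f) :
    (∀ x, (g : Matrix ι ι F) *ᵥ (J *ᵥ x) = J *ᵥ ((g : Matrix ι ι F) *ᵥ x)) ∨
      ∀ x, (g : Matrix ι ι F) *ᵥ (J *ᵥ x) = -(J *ᵥ ((g : Matrix ι ι F) *ᵥ x)) := by
  classical
  have hb := hs.symp.bilinear
  let G := (g : Matrix ι ι F).mulVecLin
  let T := G ∘ₗ J.mulVecLin - J.mulVecLin ∘ₗ G
  let S := G ∘ₗ J.mulVecLin + J.mulVecLin ∘ₗ G
  have hT : ∀ x, T x = (g : Matrix ι ι F) *ᵥ (J *ᵥ x) - J *ᵥ ((g : Matrix ι ι F) *ᵥ x) :=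
    fun x => rfl
  have hS : ∀ x, S x = (g : Matrix ι ι F) *ᵥ (J *ᵥ x) + J *ᵥ ((g : Matrix ι ι F) *ᵥ x) :=
    fun x => rfl
  have hor : ∀ w, f w (J *ᵥ w) = 0 → T w = 0 ∨ S w = 0 := fun w hw => by
    rcases iso_semilinear hs hn hM hno hgM hgi hw with h | h
    · left; rw [hT, h, sub_self]
    · right; rw [hS, h, neg_add_cancel]
  have hTJ : ∀ x, T (J *ᵥ x) = -(J *ᵥ T x) := fun x => by
    rw [hT, hT, J_J hs, mulVec_smul, mulVec_sub, J_J hs]; module
  have hSJ : ∀ x, S (J *ᵥ x) = J *ᵥ S x := fun x => by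
    rw [hS, hS, J_J hs, mulVec_smul, mulVec_add, J_J hs]; module
  by_cases hall : ∀ w, f w (J *ᵥ w) = 0 → T w = 0
  · exact Or.inl fun x => sub_eq_zero.mp (eq_zero_of_iso hs hn T hall x)
  refine Or.inr fun x => eq_neg_iff_add_eq_zero.mpr (eq_zero_of_iso hs hn S ?_ x)
  intro w₂ hw₂
  by_contra hS₂
  push Not at hall
  obtain ⟨w₁, hw₁, hT₁⟩ := hall
  have hS₁ : S w₁ = 0 := (hor w₁ hw₁).resolve_left hT₁
  have hT₂ : T w₂ = 0 := (hor w₂ hw₂).resolve_right hS₂
  obtain ⟨α, γ, hαγ, hlin⟩ : ∃ α γ : F, (α ≠ 0 ∨ γ ≠ 0) ∧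
      α * f w₁ (J *ᵥ w₂) + γ * (μ * f w₁ w₂) = 0 := by
    by_cases hA : f w₁ (J *ᵥ w₂) = 0
    · exact ⟨1, 0, Or.inl one_ne_zero, by rw [hA]; ring⟩
    · exact ⟨μ * f w₁ w₂, -(f w₁ (J *ᵥ w₂)), Or.inr (neg_ne_zero.mpr hA), by ring⟩
  set y := α • w₂ + γ • (J *ᵥ w₂) with hy
  have hiso : f (w₁ + y) (J *ᵥ (w₁ + y)) = 0 := by
    rw [mulVec_add, hb.add_left, hb.add_right, hb.add_right, hw₁, iso_comb hs hw₂ α γ,
      symm_J hs w₁ y, hy, mulVec_add, mulVec_smul, mulVec_smul, J_J hs, hb.add_right,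
      hb.smul_right, hb.smul_right, hb.smul_right]
    linear_combination 2 * hlin
  have hTy : T y = 0 := by rw [hy, map_add, map_smul, map_smul, hTJ, hT₂]; simp
  rcases hor _ hiso with h | h
  · rw [map_add, hTy, add_zero] at h; exact hT₁ h
  · rw [map_add, hS₁, zero_add, hy, map_add, map_smul, map_smul, hSJ] at h
    exact hS₂ (smul_eq_zero_K hs h hαγ)

theorem centres_step {p e : ι → F} (hp : p ∈ centres f M) (he : f e (J *ᵥ e) = 0)
    (h1 : f p e ≠ 0) (h2 : f p (J *ᵥ e) = 0) : e ∈ centres f M := by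
  have hb := hs.symp.bilinear
  have hpe : p + e ∈ centres f M := by
    have := conj_mem_centres hs.symp (ut_mem hs hn hM he (-(μ * f p e)⁻¹)) (ut_mem_isom hs _ _) hp
    rw [ut_mulVec hs he, h2, mul_zero, zero_smul, add_zero] at this
    have hμ := mu_ne hs
    rwa [show -(μ * -(μ * f p e)⁻¹) * f p e = 1 by field_simp, one_smul] at this
  have := add_smul_mem_centres hs.symp hpe hp (a := -1)
    (by rw [hb.add_left, hs.symp.alternating, zero_add, hs.symp.skew]; exact neg_ne_zero.mpr h1)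
  simpa using this

theorem centres_line {p e : ι → F} (hp : p ∈ centres f M) (hpi : f p (J *ᵥ p) = 0)
    (he : f e (J *ᵥ e) = 0) (h : f p e ≠ 0 ∨ f p (J *ᵥ e) ≠ 0) (x y : F) :
    x • e + y • (J *ᵥ e) ∈ centres f M := by
  classical
  have hb := hs.symp.bilinear
  have ha := hs.symp.alternating
  have hμ := mu_ne hs
  set A := f p e
  set B := f p (J *ᵥ e)
  have hne : B * B - μ * (A * A) ≠ 0 := norm_ne hs (h.symm.imp id id)
  set e₁ := (-(μ * A) / (B * B - μ * (A * A))) • e + (B / (B * B - μ * (A * A))) • (J *ᵥ e)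
    with he₁
  have hei : f e₁ (J *ᵥ e₁) = 0 := iso_comb hs he _ _
  have hp1 : f p e₁ = 1 := by
    rw [he₁, hb.add_right, hb.smul_right, hb.smul_right, show f p e = A from rfl,
      show f p (J *ᵥ e) = B from rfl, div_eq_mul_inv, div_eq_mul_inv]
    linear_combination mul_inv_cancel₀ hne
  have hp2 : f p (J *ᵥ e₁) = 0 := by
    rw [he₁, mulVec_add, mulVec_smul, mulVec_smul, J_J hs, hb.add_right, hb.smul_right,
      hb.smul_right, hb.smul_right]
    ring
  -- every multiple of `e₁`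
  have key : ∀ a c : F, a • e₁ + c • (J *ᵥ e₁) ∈ centres f M := by
    intro a c
    obtain ⟨z, hz1, hz2, hz3, hz4, hz⟩ := exists_rest hs hn hpi hei hp1 hp2
    have h3 : f (J *ᵥ p) e₁ = 0 := by rw [hs.skew, hp2, neg_zero]
    have h4 : f (J *ᵥ p) (J *ᵥ e₁) = -μ := by rw [f_JJ hs, hp1, mul_one]
    have e1 : f (J *ᵥ z) p = 0 := by rw [hs.skew, hz2, neg_zero]
    have e2 : f (J *ᵥ z) e₁ = 0 := by rw [hs.skew, hz4, neg_zero]
    have n1 : f p z = 0 := by rw [hs.symp.skew, hz1, neg_zero]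
    set t := f z (J *ᵥ z) / (2 * μ) with ht
    have ht0 : t ≠ 0 := div_ne_zero hz (mul_ne_zero hs.two hμ)
    have hw : ∀ s : F, f (s • p + t • (J *ᵥ p) + e₁ + z) (J *ᵥ (s • p + t • (J *ᵥ p) + e₁ + z)) = 0 ∧
        f p (s • p + t • (J *ᵥ p) + e₁ + z) = 1 ∧
        f p (J *ᵥ (s • p + t • (J *ᵥ p) + e₁ + z)) = 0 ∧
        f (s • p + t • (J *ᵥ p) + e₁ + z) e₁ = s ∧
        f (s • p + t • (J *ᵥ p) + e₁ + z) (J *ᵥ e₁) = -(t * μ) := by
      intro s
      have h5 : f (J *ᵥ p) p = 0 := by rw [hs.symp.skew, hpi, neg_zero]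
      have n2 : f p (J *ᵥ z) = 0 := by rw [hs.symp.skew, e1, neg_zero]
      have n3 : f (J *ᵥ p) z = 0 := by rw [hs.symp.skew, hz2, neg_zero]
      have n4 : f (J *ᵥ p) (J *ᵥ z) = 0 := by rw [f_JJ hs, n1, mul_zero, neg_zero]
      have n5 : f e₁ (J *ᵥ z) = 0 := by rw [hs.symp.skew, e2, neg_zero]
      refine ⟨?_, ?_, ?_, ?_, ?_⟩ <;>
      simp only [mulVec_add, mulVec_smul, J_J hs, hb.add_left, hb.add_right, hb.smul_left,
        hb.smul_right, ha, hpi, hei, hp1, hp2, h3, h4, h5, hz1, hz2, hz3, hz4, n1, n2, n3, n4, n5,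
        hs.symp.skew e₁ p, hs.symp.skew e₁ (J *ᵥ p), ht]
      · have := hs.two
        field_simp
        ring
      all_goals ring
    by_cases hc : c = 0
    · subst hc
      rw [zero_smul, add_zero]
      exact smul_mem_centres hs.symp (centres_step hs hn hM hp hei (by rw [hp1]; exact one_ne_zero) hp2) a
    set s := a * t / c with hst
    obtain ⟨w1, w2, w3, w4, w5⟩ := hw s
    have hwC := centres_step hs hn hM hp w1 (by rw [w2]; exact one_ne_zero) w3
    have hC := centres_step hs hn hM hwC (iso_comb hs hei s t) (by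
        rw [hb.add_right, hb.smul_right, hb.smul_right, w4, w5]
        have := norm_ne hs (x := s) (y := t) (Or.inr ht0)
        intro h0; apply this; linear_combination h0) (by
        rw [mulVec_add, mulVec_smul, mulVec_smul, J_J hs, hb.add_right, hb.smul_right,
          hb.smul_right, hb.smul_right, w4, w5]
        ring)
    have := smul_mem_centres hs.symp hC (c / t)
    rwa [smul_add, smul_smul, smul_smul, hst, div_mul_div_comm,
      show c * (a * t) / (t * c) = a by field_simp, div_mul_cancel₀ _ ht0] at this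
  -- `e` is in the line of `e₁`
  have hexp : e = A • e₁ + (B / μ) • (J *ᵥ e₁) := by
    rw [he₁, mulVec_add, mulVec_smul, mulVec_smul, J_J hs, div_eq_mul_inv, div_eq_mul_inv,
      div_eq_mul_inv]
    match_scalars
    · linear_combination (-1 : F) * mul_inv_cancel₀ hne -
        (B * B * (B * B - μ * (A * A))⁻¹) * mul_inv_cancel₀ hμ
    · linear_combination (A * B * (B * B - μ * (A * A))⁻¹) * mul_inv_cancel₀ hμ
  clear_value e₁
  convert key (x * A + y * (B / μ) * μ) (x * (B / μ) + y * A) using 1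
  nth_rw 1 [hexp]
  nth_rw 1 [hexp]
  rw [mulVec_add, mulVec_smul, mulVec_smul, J_J hs]
  module

theorem centres_iso {p : ι → F} (hp : p ∈ centres f M) (hp0 : p ≠ 0) (hpi : f p (J *ᵥ p) = 0)
    {e : ι → F} (he : f e (J *ᵥ e) = 0) : e ∈ centres f M := by
  have hb := hs.symp.bilinear
  by_cases he0 : e = 0
  · rw [he0]; simpa using smul_mem_centres hs.symp hp 0
  obtain ⟨w₁, hw₁, hp1, hp1'⟩ := exists_partner hs hn hp0
  obtain ⟨w₂, hw₂, he2, he2'⟩ := exists_partner hs hn he0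
  have main : ∀ w, f w (J *ᵥ w) = 0 → (f p w ≠ 0 ∨ f p (J *ᵥ w) ≠ 0) →
      (f e w ≠ 0 ∨ f e (J *ᵥ w) ≠ 0) → e ∈ centres f M := by
    intro w hw h1 h2
    have hwC : w ∈ centres f M := by
      simpa using centres_line hs hn hM hp hpi hw h1 1 0
    have h3 : f w e ≠ 0 ∨ f w (J *ᵥ e) ≠ 0 := by
      rcases h2 with h | h
      · left; rw [hs.symp.skew]; exact neg_ne_zero.mpr h
      · right; rwa [symm_J hs e w]
    simpa using centres_line hs hn hM hwC hw he h3 1 0
  by_cases h1 : f e w₁ ≠ 0 ∨ f e (J *ᵥ w₁) ≠ 0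
  · exact main w₁ hw₁ (Or.inl (by rw [hp1]; exact one_ne_zero)) h1
  by_cases h2 : f p w₂ ≠ 0 ∨ f p (J *ᵥ w₂) ≠ 0
  · exact main w₂ hw₂ h2 (Or.inl (by rw [he2]; exact one_ne_zero))
  push Not at h1 h2
  obtain ⟨α, γ, hαγ, hlin⟩ : ∃ α γ : F, (α ≠ 0 ∨ γ ≠ 0) ∧
      α * f w₁ (J *ᵥ w₂) + γ * (μ * f w₁ w₂) = 0 := by
    by_cases hA : f w₁ (J *ᵥ w₂) = 0
    · exact ⟨1, 0, Or.inl one_ne_zero, by rw [hA]; ring⟩
    · exact ⟨μ * f w₁ w₂, -(f w₁ (J *ᵥ w₂)), Or.inr (neg_ne_zero.mpr hA), by ring⟩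
  set y := α • w₂ + γ • (J *ᵥ w₂) with hy
  have hiso : f (w₁ + y) (J *ᵥ (w₁ + y)) = 0 := by
    rw [mulVec_add, hb.add_left, hb.add_right, hb.add_right, hw₁, iso_comb hs hw₂ α γ,
      symm_J hs w₁ y, hy, mulVec_add, mulVec_smul, mulVec_smul, J_J hs, hb.add_right,
      hb.smul_right, hb.smul_right, hb.smul_right]
    linear_combination 2 * hlin
  refine main _ hiso (Or.inl ?_) ?_
  · rw [hb.add_right, hy, hb.add_right, hb.smul_right, hb.smul_right, h2.1, h2.2, hp1]; simp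
  · rcases hαγ with h | h
    · left
      rw [hb.add_right, h1.1, hy, hb.add_right, hb.smul_right, hb.smul_right, he2, he2']; simpa using h
    · right
      rw [mulVec_add, hb.add_right, h1.2, hy, mulVec_add, mulVec_smul, mulVec_smul, J_J hs,
        hb.add_right, hb.smul_right, hb.smul_right, hb.smul_right, he2, he2']
      simpa using ⟨h, mu_ne hs⟩

theorem isom_le {g : GL ι F} (hgM : g ∈ M) (hgi : g ∈ isom f)
    (hg : ¬ ((∀ x, (g : Matrix ι ι F) *ᵥ (J *ᵥ x) = J *ᵥ ((g : Matrix ι ι F) *ᵥ x)) ∨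
      ∀ x, (g : Matrix ι ι F) *ᵥ (J *ᵥ x) = -(J *ᵥ ((g : Matrix ι ι F) *ᵥ x)))) :
    isom f ≤ M := by
  obtain ⟨p, hp0, hpi, hp⟩ : ∃ p, p ≠ 0 ∧ f p (J *ᵥ p) = 0 ∧ p ∈ centres f M := by
    by_contra hno
    exact hg (semilinear_of_no_centre hs hn hM hno hgM hgi)
  have hiso : ∀ e, f e (J *ᵥ e) = 0 → e ∈ centres f M := fun e he =>
    centres_iso hs hn hM hp hp0 hpi he
  suffices ∀ x, x ∈ centres f M from isom_le_of_st_mem hs.symp fun v c => this v c
  intro x
  by_cases hx : x = 0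
  · exact hiso x (by rw [hx, form_zero_left hs.symp.bilinear])
  obtain ⟨e, y, he, hy, hne, t, rfl⟩ := exists_split hs hn hx
  have := add_smul_mem_centres hs.symp (hiso y hy) (hiso e he) hne (-t)
  rwa [neg_smul, ← sub_eq_add_neg] at this

end Cfsg.Agent.Sp6Geom34.Unitary
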