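import Cfsg.Agent.Sp6Geom34.UnitaryCore

/-!
The transvection produced by two isotropic lines over the quadratic field (helper34).
-/

set_option autoImplicit false
set_option linter.unusedSectionVars false

namespace Cfsg.Agent.Sp6Geom34.Unitary

open Matrix Cfsg.Agent.MaxSub Cfsg.Agent.UnitaryInSp

variable {ι : Type} [Fintype ι] [DecidableEq ι] {F : Type*} [Field F]
variable {f : (ι → F) → (ι → F) → F} {J : Matrix ι ι F} {μ : F}
variable (hs : IsSkewGen f J μ)
include hs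

/-- The rank two operator of two vectors. -/
def op (a b : ι → F) : (ι → F) →ₗ[F] (ι → F) :=
  -(μ • (lmap hs.symp.bilinear a).smulRight a) + (lmap hs.symp.bilinear b).smulRight b

theorem op_apply (a b x : ι → F) : op hs a b x = -(μ • f x a • a) + f x b • b := rfl

theorem op_sq {a b : ι → F} (h : f a b = 0) (x : ι → F) : op hs a b (op hs a b x) = 0 := by
  have h' : f b a = 0 := by rw [hs.symp.skew, h, neg_zero]
  rw [op_apply, op_apply]
  simp only [hs.symp.bilinear.add_left, hs.symp.bilinear.smul_left, hs.symp.alternating, h, h',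
    ← neg_one_smul F (μ • f x a • a)]
  simp

variable [Finite F] (hn : 5 ≤ Fintype.card ι)
include hn

/-- A hyperbolic partner over the quadratic field. -/
theorem exists_partner {v : ι → F} (hv : v ≠ 0) :
    ∃ e, f e (J *ᵥ e) = 0 ∧ f v e = 1 ∧ f v (J *ᵥ e) = 0 := by
  obtain ⟨w, hw, hwv⟩ := exists_iso_dual hs hn hv
  have hb := hs.symp.bilinear
  have h1 : f v (J *ᵥ w) = 1 := by rw [symm_J hs w v, hwv]
  set A := f v w
  have hne : 1 - μ * (A * A) ≠ 0 := by
    have := norm_ne hs (x := (1 : F)) (y := A) (Or.inl one_ne_zero)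
    rwa [one_mul] at this
  set y := (1 - μ * (A * A))⁻¹ with hy
  refine ⟨(-(μ * A * y)) • w + y • (J *ᵥ w), iso_comb hs hw _ _, ?_, ?_⟩
  · rw [hb.add_right, hb.smul_right, hb.smul_right, h1, show f v w = A from rfl]
    linear_combination inv_mul_cancel₀ hne
  · rw [mulVec_add, mulVec_smul, mulVec_smul, J_J hs, hb.add_right, hb.smul_right, hb.smul_right,
      hb.smul_right, h1, show f v w = A from rfl]
    ring

/-- An anisotropic vector orthogonal to a hyperbolic plane over the quadratic field. -/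
theorem exists_rest {v e : ι → F} (hv : f v (J *ᵥ v) = 0) (he : f e (J *ᵥ e) = 0)
    (h1 : f v e = 1) (h2 : f v (J *ᵥ e) = 0) :
    ∃ z, f z v = 0 ∧ f z (J *ᵥ v) = 0 ∧ f z e = 0 ∧ f z (J *ᵥ e) = 0 ∧
      f z (J *ᵥ z) ≠ 0 := by
  have hb := hs.symp.bilinear
  have ha := hs.symp.alternating
  have hμ := mu_ne hs
  have h3 : f (J *ᵥ v) e = 0 := by rw [hs.skew, h2, neg_zero]
  have h4 : f (J *ᵥ v) (J *ᵥ e) = -μ := by rw [f_JJ hs, h1, mul_one]
  have h5 : f (J *ᵥ v) v = 0 := by rw [hs.symp.skew, hv, neg_zero]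
  have h6 : f (J *ᵥ e) e = 0 := by rw [hs.symp.skew, he, neg_zero]
  let π : (ι → F) → (ι → F) := fun x => x - f x e • v + (f x (J *ᵥ e) / μ) • (J *ᵥ v) -
    f v x • e + (f (J *ᵥ v) x / μ) • (J *ᵥ e)
  have hπ : ∀ x, f (π x) v = 0 ∧ f (π x) (J *ᵥ v) = 0 ∧ f (π x) e = 0 ∧
      f (π x) (J *ᵥ e) = 0 := by
    intro x
    refine ⟨?_, ?_, ?_, ?_⟩ <;>
    · simp only [π, hb.add_left, form_sub_left hb, hb.smul_left, ha, h1, h2, h3, h4, h5, h6, hv,
        he, hs.symp.skew e v, hs.symp.skew (J *ᵥ e) v, hs.symp.skew e (J *ᵥ v),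
        hs.symp.skew (J *ᵥ e) (J *ᵥ v)]
      rw [hs.symp.skew x]
      field_simp
      ring
  by_contra hc
  have hQ : ∀ x, f (π x) (J *ᵥ π x) = 0 := fun x => by
    by_contra h
    exact hc ⟨_, (hπ x).1, (hπ x).2.1, (hπ x).2.2.1, (hπ x).2.2.2, h⟩
  have hadd : ∀ x y, π (x + y) = π x + π y := fun x y => by
    simp only [π, hb.add_left, hb.add_right, add_div]; module
  have hpol : ∀ x y, f (π x) (J *ᵥ π y) = 0 := fun x y => by
    have h := hQ (x + y)
    rw [hadd, mulVec_add, hb.add_left, hb.add_right, hb.add_right, hQ x, hQ y,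
      symm_J hs (π x) (π y)] at h
    refine (mul_eq_zero.mp (?_ : (2 : F) * _ = 0)).resolve_left hs.two
    linear_combination h
  have hzero : ∀ x, π x = 0 := fun x => by
    by_contra h0
    obtain ⟨y, hy⟩ := (hs.symp.nondegenerate _ h0).2
    refine hy ?_
    obtain ⟨hx1, hx2, hx3, hx4⟩ := hπ x
    have hy' : f (π x) y = f (π x) (π y) := by
      simp only [π, hb.add_right, form_sub_right hb, hb.smul_right]
      change _ = f (π x) y - f y e * f (π x) v + _ * f (π x) (J *ᵥ v) - _ * f (π x) e +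
        _ * f (π x) (J *ᵥ e)
      rw [hx1, hx2, hx3, hx4]; ring
    obtain ⟨y1, y2, y3, y4⟩ := hπ y
    have hfix : π (J *ᵥ π y) = J *ᵥ π y := by
      have e1 : f (J *ᵥ π y) e = 0 := by rw [hs.skew, y4, neg_zero]
      have e2 : f (J *ᵥ π y) (J *ᵥ e) = 0 := by rw [f_JJ hs, y3, mul_zero, neg_zero]
      have e3 : f v (J *ᵥ π y) = 0 := by rw [symm_J hs (π y) v, y2]
      have e4 : f (J *ᵥ v) (J *ᵥ π y) = 0 := by
        rw [f_JJ hs, hs.symp.skew v, y1, neg_zero, mul_zero, neg_zero]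
      show J *ᵥ π y - _ • v + _ • (J *ᵥ v) - _ • e + _ • (J *ᵥ e) = _
      rw [e1, e2, e3, e4]; simp
    have := hpol x (J *ᵥ π y)
    rw [hfix, J_J hs, hb.smul_right] at this
    rw [hy']
    exact (mul_eq_zero.mp this).resolve_left hμ
  have htop : ⊤ ≤ Submodule.span F (Set.range ![v, J *ᵥ v, e, J *ᵥ e]) := by
    intro x _
    rw [Submodule.mem_span_range_iff_exists_fun]
    refine ⟨![f x e, -(f x (J *ᵥ e) / μ), f v x, -(f (J *ᵥ v) x / μ)], ?_⟩
    rw [← sub_eq_zero, ← neg_eq_zero]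
    refine Eq.trans ?_ (hzero x)
    simp [π, Fin.sum_univ_four]
    module
  have hd := Submodule.finrank_mono htop
  rw [finrank_top, Module.finrank_fintype_fun_eq_card] at hd
  have := (finrank_range_le_card (R := F) (![v, J *ᵥ v, e, J *ᵥ e])).trans
    (Fintype.card_fin 4).le
  simp only [Set.finrank] at this
  omega

variable {M : Subgroup (GL ι F)}
variable (hM : ∀ g ∈ isom f,
  (∀ x, (g : Matrix ι ι F) *ᵥ (J *ᵥ x) = J *ᵥ ((g : Matrix ι ι F) *ᵥ x)) → g ∈ M)
include hM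

theorem ut_mem {v : ι → F} (hv : f v (J *ᵥ v) = 0) (β : F) : ut f J μ v β ∈ M :=
  hM _ (ut_mem_isom hs v β) fun x => ut_comm hs hv β x

/-- The key step. -/
theorem exists_centre_of {g : GL ι F} (hgM : g ∈ M) (hgi : g ∈ isom f) {v w : ι → F}
    (hv : f v (J *ᵥ v) = 0) (hv0 : v ≠ 0) (hw : f w (J *ᵥ w) = 0) {a a' b b' : F}
    (ha : f v ((g : Matrix ι ι F) *ᵥ w) = a)
    (ha' : f v ((g : Matrix ι ι F) *ᵥ (J *ᵥ w)) = a')
    (hb₁ : f (J *ᵥ v) ((g : Matrix ι ι F) *ᵥ w) = b)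
    (hb₂ : f (J *ᵥ v) ((g : Matrix ι ι F) *ᵥ (J *ᵥ w)) = b')
    (hdet : a * b' - a' * b ≠ 0)
    (hns : μ * a * b - a' * b' ≠ 0 ∨
      μ * (a' * a') - μ * μ * (a * a) ≠ μ * (b * b) - b' * b') :
    ∃ p, p ≠ 0 ∧ f p (J *ᵥ p) = 0 ∧ p ∈ centres f M := by
  have hb := hs.symp.bilinear
  have hμ := mu_ne hs
  set u := (g : Matrix ι ι F) *ᵥ w with hu
  set u' := (g : Matrix ι ι F) *ᵥ (J *ᵥ w) with hu'
  have huu : f u u' = 0 := by rw [hu, hu', mem_isom.mp hgi, hw]
  set X := op hs v (J *ᵥ v) with hX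
  set Y := op hs u u' with hY
  have hXX := op_sq hs hv
  have hYY := op_sq hs huu
  let T : F → GL ι F := fun β => g * ut f J μ w β * g⁻¹
  have hTM : ∀ β, T β ∈ M := fun β =>
    mul_mem (mul_mem hgM (ut_mem hs hn hM hw β)) (inv_mem hgM)
  have hTi : ∀ β, T β ∈ isom f := fun β =>
    mul_mem (mul_mem hgi (ut_mem_isom hs w β)) (inv_mem hgi)
  have hTx : ∀ β x, (T β : Matrix ι ι F) *ᵥ x = x + β • Y x := fun β x => by
    obtain ⟨z, rfl⟩ : ∃ z, (g : Matrix ι ι F) *ᵥ z = x := ⟨_, mulVec_inv_mulVec g x⟩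
    simp only [T, Units.val_mul, ← mulVec_mulVec, inv_mulVec_mulVec, ut_mulVec hs hw, mulVec_add,
      mulVec_smul, hY, op_apply, hu, hu', mem_isom.mp hgi]
    module
  have hUx : ∀ β x, (ut f J μ v β : Matrix ι ι F) *ᵥ x = x + β • X x := fun β x => by
    rw [ut_mulVec hs hv, hX, op_apply]; module
  -- the operator `X Y` on the line of `v`
  set p11 := μ * (a' * a') - μ * μ * (a * a) with hp11
  set p12 := μ * a * b - a' * b' with hp12
  set p22 := μ * (b * b) - b' * b' with hp22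
  have hva : f u v = -a := by rw [hs.symp.skew, ha]
  have hvb : f u (J *ᵥ v) = -b := by rw [hs.symp.skew, hb₁]
  have hva' : f u' v = -a' := by rw [hs.symp.skew, ha']
  have hvb' : f u' (J *ᵥ v) = -b' := by rw [hs.symp.skew, hb₂]
  have hXu : X u = (μ * a) • v - b • (J *ᵥ v) := by rw [hX, op_apply, hva, hvb]; module
  have hXu' : X u' = (μ * a') • v - b' • (J *ᵥ v) := by rw [hX, op_apply, hva', hvb']; module
  have hPv : X (Y v) = p11 • v + p12 • (J *ᵥ v) := by
    have e : Y v = -(μ • a • u) + a' • u' := by rw [hY, op_apply, ha, ha']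
    rw [e, map_add, map_neg, map_smul, map_smul, map_smul, hXu, hXu', hp11, hp12]
    module
  have hPJ : X (Y (J *ᵥ v)) = (-(μ * p12)) • v + p22 • (J *ᵥ v) := by
    have e : Y (J *ᵥ v) = -(μ • b • u) + b' • u' := by rw [hY, op_apply, hb₁, hb₂]
    rw [e, map_add, map_neg, map_smul, map_smul, map_smul, hXu, hXu', hp22, hp12]
    module
  set τ := p11 + p22 with hτ
  set δ := p11 * p22 + μ * (p12 * p12) with hδ
  have hδ0 : δ ≠ 0 := by
    have : δ = μ * μ * (a * b' - a' * b) ^ 2 := by rw [hδ, hp11, hp12, hp22]; ring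
    rw [this]
    exact mul_ne_zero (mul_ne_zero hμ hμ) (pow_ne_zero _ hdet)
  obtain ⟨c, hc, hc'⟩ : ∃ c : F, c ≠ 0 ∧ c * δ + τ ≠ 0 := by
    by_cases h : δ + τ = 0
    · refine ⟨-1, neg_ne_zero.mpr one_ne_zero, fun h' => hδ0 ?_⟩
      exact (mul_eq_zero.mp (by linear_combination h - h' : (2 : F) * δ = 0)).resolve_left hs.two
    · exact ⟨1, one_ne_zero, by rwa [one_mul]⟩
  set k := c / (c * δ + τ) with hk
  set e₅ := -(1 / (c * δ)) with he₅
  set f₅ := k * δ with hf₅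
  have hk0 : k ≠ 0 := div_ne_zero hc hc'
  set h := T 1 * ut f J μ v c * T (-1) * ut f J μ v e₅ * T f₅ with hh
  have hhM : h ∈ M := mul_mem (mul_mem (mul_mem (mul_mem (hTM _) (ut_mem hs hn hM hv _)) (hTM _))
    (ut_mem hs hn hM hv _)) (hTM _)
  have hhi : h ∈ isom f := mul_mem (mul_mem (mul_mem (mul_mem (hTi _) (ut_mem_isom hs v _))
    (hTi _)) (ut_mem_isom hs v _)) (hTi _)
  have hword : ∀ x, X x = 0 → (h : Matrix ι ι F) *ᵥ x =
      (x + (e₅ * f₅ + c * f₅ + c * -1) • X (Y x) + (c * -1 * e₅ * f₅) • X (Y (X (Y x)))) +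
        ((1 + -1 + f₅) • Y x + (1 * c * -1 + 1 * c * f₅ + 1 * e₅ * f₅ + -1 * e₅ * f₅) •
          Y (X (Y x)) + (1 * c * -1 * e₅ * f₅) • Y (X (Y (X (Y x))))) := by
    intro x hx
    rw [← word_apply X Y hXX hYY hx (1 : F) c (-1) e₅ f₅]
    simp only [hh, Units.val_mul, ← mulVec_mulVec, hTx, hUx]
  set α := 1 - k * δ with hα
  set β := -(k / c) with hβ
  have hβ0 : β ≠ 0 := neg_ne_zero.mpr (div_ne_zero hk0 hc)
  have hline : ∀ x y : F, (h : Matrix ι ι F) *ᵥ (x • v + y • (J *ᵥ v)) =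
      α • (x • v + y • (J *ᵥ v)) + β • X (Y (x • v + y • (J *ᵥ v))) := by
    intro x y
    have hXv : X (x • v + y • (J *ᵥ v)) = 0 := by
      have : f (J *ᵥ v) v = 0 := by rw [hs.symp.skew, hv, neg_zero]
      simp [hX, op_apply, hb.add_left, hb.smul_left, hs.symp.alternating, hv, this]
    have hsq : X (Y (X (Y (x • v + y • (J *ᵥ v))))) =
        τ • X (Y (x • v + y • (J *ᵥ v))) - δ • (x • v + y • (J *ᵥ v)) := by
      simp only [map_add, map_smul, hPv, hPJ, hτ, hδ]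
      module
    rw [hword _ hXv, hsq, map_sub, map_smul, map_smul]
    have hden := hc'
    match_scalars <;> simp only [he₅, hf₅, hα, hβ, hk] <;> field_simp <;> ring
  have hL : ∀ x, InL J v x → InL J v ((h : Matrix ι ι F) *ᵥ x) := by
    rintro _ ⟨x, y, rfl⟩
    refine ⟨α * x + β * (x * p11 - y * (μ * p12)), α * y + β * (x * p12 + y * p22), ?_⟩
    rw [hline, map_add, map_add, map_smul, map_smul, map_smul, map_smul, hPv, hPJ]
    module
  have hvL : InL J v v := ⟨1, 0, by simp⟩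
  have hJvL : InL J v (J *ᵥ v) := ⟨0, 1, by simp⟩
  have hP : ∀ x, PerpL f J v x → PerpL f J v (((h⁻¹ : GL ι F) : Matrix ι ι F) *ᵥ x) := by
    intro x hx
    constructor <;> rw [← mem_isom.mp hhi, mulVec_inv_mulVec]
    · exact inL_form hs (hL _ hvL) hx
    · exact inL_form hs (hL _ hJvL) hx
  have hfix : ∀ x, PerpL f J v x → InL J v ((h : Matrix ι ι F) *ᵥ x - x) := by
    intro x hx
    set s := (f x u * b' - f x u' * b) / (a * b' - a' * b) with hs'
    set t := (a * f x u' - a' * f x u) / (a * b' - a' * b) with ht'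
    set l := s • v + t • (J *ᵥ v) with hl
    have hl' : InL J v l := ⟨s, t, rfl⟩
    have hYz : Y (x - l) = 0 := by
      have e1 : f (x - l) u = 0 := by
        rw [form_sub_left hb, hl, hb.add_left, hb.smul_left, hb.smul_left, ha, hb₁, hs', ht', div_eq_mul_inv,
          div_eq_mul_inv]
        linear_combination (-(f x u)) * mul_inv_cancel₀ hdet
      have e2 : f (x - l) u' = 0 := by
        rw [form_sub_left hb, hl, hb.add_left, hb.smul_left, hb.smul_left, ha', hb₂, hs', ht', div_eq_mul_inv,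
          div_eq_mul_inv]
        linear_combination (-(f x u')) * mul_inv_cancel₀ hdet
      rw [hY, op_apply, e1, e2]; simp
    have hXz : X (x - l) = 0 := by
      obtain ⟨e1, e2⟩ := inL_perp hs hv hl'
      rw [hX, op_apply, form_sub_left hb, form_sub_left hb, hx.1, hx.2, e1, e2]; simp
    have hz := hword _ hXz
    simp only [hYz, map_zero, smul_zero, add_zero, mulVec_sub] at hz
    have : (h : Matrix ι ι F) *ᵥ x - x = (h : Matrix ι ι F) *ᵥ l + (-1 : F) • l := by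
      rw [sub_eq_sub_iff_add_eq_add] at hz
      rw [neg_one_smul, ← sub_eq_add_neg, sub_eq_sub_iff_add_eq_add, hz, add_comm]
    rw [this]
    exact inL_add hs (hL _ hl') (inL_smul hs _ hl')
  -- the centre
  set s₀ := (h : Matrix ι ι F) *ᵥ v with hs₀
  set p := (h : Matrix ι ι F) *ᵥ (J *ᵥ v) - J *ᵥ s₀ with hp
  have hpe : p = (-(2 * (β * (μ * p12)))) • v + (β * (p22 - p11)) • (J *ᵥ v) := by
    have e1 := hline 0 1
    have e2 := hline 1 0
    simp only [one_smul, zero_smul, zero_add, add_zero] at e1 e2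
    rw [hp, hs₀, e1, e2, hPv, hPJ]
    simp only [mulVec_add, mulVec_smul, J_J hs]
    module
  have hpL : InL J v p := ⟨_, _, hpe⟩
  have hp0 : p ≠ 0 := by
    rw [hpe]
    intro h0
    obtain ⟨e1, e2⟩ := J_indep hs hv0 h0
    rcases hns with h | h
    · exact mul_ne_zero hs.two (mul_ne_zero hβ0 (mul_ne_zero hμ h)) (neg_eq_zero.mp e1)
    · exact mul_ne_zero hβ0 (sub_ne_zero.mpr (Ne.symm h)) e2
  refine ⟨p, hp0, hpe ▸ iso_comb hs hv _ _, fun r => ?_⟩
  obtain ⟨e₁, he₁, hve₁, hve₂⟩ := exists_partner hs hn hv0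
  obtain ⟨z, hz1, hz2, -, -, hz⟩ := exists_rest hs hn hv he₁ hve₁ hve₂
  have key : ∀ e, PerpL f J v e → ∃ n ∈ M, Cong f J v n (A hs p e) := by
    intro e he
    have heJ : PerpL f J v (J *ᵥ e) :=
      ⟨by rw [hs.skew, he.2, neg_zero], by rw [f_JJ hs, he.1, mul_zero, neg_zero]⟩
    have hs₀L : InL J v s₀ := hL _ hvL
    have hJs₀ : InL J v (J *ᵥ s₀) := by
      obtain ⟨x, y, hxy⟩ := hs₀L
      refine ⟨y * μ, x, ?_⟩
      rw [hxy, mulVec_add, mulVec_smul, mulVec_smul, J_J hs]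
      module
    have hs₀i : f s₀ (J *ᵥ s₀) = 0 := by
      obtain ⟨x, y, hxy⟩ := hs₀L
      rw [hxy]; exact iso_comb hs hv x y
    have c1 := cong_conj hs hhi hL hP (cong_sieg hs hv hvL hJvL hv he heJ)
    have he' : PerpL f J v (-e) := by rw [← neg_one_smul F e]; exact perp_smul hs _ he
    have heJ' : PerpL f J v (J *ᵥ -e) := by
      rw [mulVec_neg, ← neg_one_smul F (J *ᵥ e)]; exact perp_smul hs _ heJ
    have c2 := cong_sieg hs hv hs₀L hJs₀ hs₀i he' heJ'
    set q := (h : Matrix ι ι F) *ᵥ (J *ᵥ v) with hq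
    have hqL : InL J v q := hL _ hJvL
    have c1' : Cong f J v (h * sieg f J v e * h⁻¹) (A hs q e - A hs s₀ (J *ᵥ e)) := by
      refine cong_congr hs c1 ?_
      have : A hs q ((h : Matrix ι ι F) *ᵥ e) - A hs s₀ ((h : Matrix ι ι F) *ᵥ (J *ᵥ e)) -
          (A hs q e - A hs s₀ (J *ᵥ e)) = A hs q ((h : Matrix ι ι F) *ᵥ e - e) +
            A hs s₀ (-((h : Matrix ι ι F) *ᵥ (J *ᵥ e) - J *ᵥ e)) := by
        rw [A_neg_right, sub_eq_add_neg ((h : Matrix ι ι F) *ᵥ e) e,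
          sub_eq_add_neg ((h : Matrix ι ι F) *ᵥ (J *ᵥ e)), A_add_right, A_add_right, A_neg_right,
          A_neg_right]
        abel
      rw [this]
      refine nil2_add hs (A_nil2 hs hqL (hfix e he)) (A_nil2 hs hs₀L ?_)
      rw [← neg_one_smul F (_ - J *ᵥ e)]
      exact inL_smul hs _ (hfix _ heJ)
    have n1 : Nil1 f J v (A hs q e - A hs s₀ (J *ᵥ e)) := by
      rw [sub_eq_add_neg, ← A_neg_right, ← mulVec_neg]
      exact nil1_add hs (A_nil1 hs hv hqL he) (A_nil1 hs hv hs₀L heJ')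
    have n2 : Nil1 f J v (A hs (J *ᵥ s₀) (-e) - A hs s₀ (J *ᵥ -e)) := by
      rw [sub_eq_add_neg, ← A_neg_right, mulVec_neg, neg_neg]
      exact nil1_add hs (A_nil1 hs hv hJs₀ he') (A_nil1 hs hv hs₀L heJ)
    have c := cong_mul hs hv n1 n2 c1' c2
    refine ⟨_, mul_mem (mul_mem (mul_mem hhM (hM _ (sieg_mem_isom hs v e)
      fun x => sieg_comm hs hv he x)) (inv_mem hhM)) (hM _ (sieg_mem_isom hs s₀ (-e))
      fun x => sieg_comm hs hs₀i
        ⟨inL_form hs hs₀L he', inL_form hs hJs₀ he'⟩ x), ?_⟩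
    convert c using 1
    rw [hp, A_sub_left, A_neg_right, mulVec_neg, A_neg_right]
    abel
  have hzJ : PerpL f J v ((r / (-2 * f z (J *ᵥ z))) • (J *ᵥ z)) :=
    perp_smul hs _ ⟨by rw [hs.skew, hz2, neg_zero], by rw [f_JJ hs, hz1, mul_zero, neg_zero]⟩
  obtain ⟨n, hn', hnc⟩ := key z ⟨hz1, hz2⟩
  obtain ⟨n', hn'', hnc'⟩ := key _ hzJ
  have := st_mem_of_cong hs hv hpL ⟨hz1, hz2⟩ hzJ hn' hn'' hnc hnc'
  have h2 := hs.two
  rwa [hb.smul_left, hs.symp.skew (J *ᵥ z) z,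
    show 2 * (r / (-2 * f z (J *ᵥ z)) * -f z (J *ᵥ z)) = r by field_simp] at this

end Cfsg.Agent.Sp6Geom34.Unitary
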